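import Mathlib

/-! Bit-packed `7 × 7` matrices over the field with three elements. -/

set_option autoImplicit false

namespace H94.O7

open Matrix

abbrev F3 := ZMod 3
abbrev Row := ℕ × ℕ
abbrev FM := List Row
abbrev M7 := Matrix (Fin 7) (Fin 7) F3
abbrev V7 := Fin 7 → F3

def val (b s : Bool) : F3 := if b then (if s then -1 else 1) else 0

def rv (r : Row) (j : ℕ) : F3 := val (r.1.testBit j) (r.2.testBit j)

def vec (r : Row) : V7 := fun j => rv r j

def rneg (a : Row) : Row := (a.1, a.1 &&& (a.2 ^^^ a.1))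

def radd (a b : Row) : Row :=
  bif a.1 == 0 then b else
    let t := a.1 &&& b.1
    let nz := (a.1 ^^^ b.1) ||| (t ^^^ (t &&& (a.2 ^^^ b.2)))
    (nz, nz &&& (((a.1 &&& a.2) ||| (b.1 &&& b.2)) ^^^ t))

theorem rv_neg (a : Row) (j : ℕ) : rv (rneg a) j = -rv a j := by
  simp only [rv, rneg, Nat.testBit_and, Nat.testBit_xor]
  generalize a.1.testBit j = x
  generalize a.2.testBit j = y
  revert x y; decide

theorem rv_zero (j : ℕ) : rv (0, 0) j = 0 := by simp [rv, val]

theorem rv_add (a b : Row) (j : ℕ) : rv (radd a b) j = rv a j + rv b j := by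
  unfold radd
  cases h : a.1 == 0
  · simp only [cond_false, rv, Nat.testBit_and, Nat.testBit_xor, Nat.testBit_or]
    generalize a.1.testBit j = x
    generalize a.2.testBit j = y
    generalize b.1.testBit j = z
    generalize b.2.testBit j = w
    revert x y z w; decide
  · simp only [cond_true]
    rw [beq_iff_eq] at h
    simp [rv, h, val]

def sel (r : Row) (k : ℕ) (R : Row) : Row :=
  bif r.1.testBit k then (bif r.2.testBit k then rneg R else R) else (0, 0)

theorem rv_sel (r : Row) (k : ℕ) (R : Row) (j : ℕ) : rv (sel r k R) j = rv r k * rv R j := by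
  have e : rv r k = val (r.1.testBit k) (r.2.testBit k) := rfl
  unfold sel
  rw [e]
  cases r.1.testBit k <;> cases r.2.testBit k <;> simp [rv_zero, rv_neg, val]

def rmul (B : FM) (r : Row) : Row :=
  radd (sel r 0 (B.getD 0 (0, 0))) (radd (sel r 1 (B.getD 1 (0, 0))) (radd (sel r 2 (B.getD 2 (0, 0)))
    (radd (sel r 3 (B.getD 3 (0, 0))) (radd (sel r 4 (B.getD 4 (0, 0)))
      (radd (sel r 5 (B.getD 5 (0, 0))) (sel r 6 (B.getD 6 (0, 0))))))))

def dec (A : FM) : M7 := Matrix.of fun i j => rv (A.getD i (0, 0)) j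

theorem vec_rmul (B : FM) (r : Row) : vec (rmul B r) = vec r ᵥ* dec B := by
  funext j
  simp [vec, rmul, rv_add, rv_sel, vecMul, dotProduct, Fin.sum_univ_seven, dec, add_assoc]

def mul (A B : FM) : FM := A.map (rmul B)

theorem dec_mul (A B : FM) : dec (mul A B) = dec A * dec B := by
  have hz : rmul B (0, 0) = (0, 0) := by simp [rmul, sel, radd]
  ext i j
  have h := congrFun (vec_rmul B (A.getD i (0, 0))) j
  have e : (mul A B).getD i (0, 0) = rmul B (A.getD i (0, 0)) := by
    conv_lhs => rw [← hz]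
    exact List.getD_map (n := (i : ℕ)) ..
  show rv ((mul A B).getD i (0, 0)) j = _
  rw [e]
  exact h

def one : FM := [(1, 0), (2, 0), (4, 0), (8, 0), (16, 0), (32, 0), (64, 0)]

theorem dec_one : dec one = 1 := by decide

/-- Bitwise equality test of entries. -/
def eqR (a b : Row) : Bool :=
  (List.range 7).all fun j => (a.1.testBit j == b.1.testBit j) &&
    ((a.1.testBit j && a.2.testBit j) == (b.1.testBit j && b.2.testBit j))

theorem eqR_iff (a b : Row) : eqR a b = true ↔ vec a = vec b := by
  have key : ∀ x y z w : Bool, ((x == z) && ((x && y) == (z && w))) = true ↔ val x y = val z w := by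
    decide
  simp only [eqR, List.all_eq_true, List.mem_range, key]
  exact ⟨fun h => funext fun j => h j j.2, fun h j hj => congrFun h ⟨j, hj⟩⟩

def eqM (A B : FM) : Bool :=
  (List.range 7).all fun i => eqR (A.getD i (0, 0)) (B.getD i (0, 0))

theorem eqM_iff (A B : FM) : eqM A B = true ↔ dec A = dec B := by
  simp only [eqM, List.all_eq_true, List.mem_range, eqR_iff]
  exact ⟨fun h => Matrix.ext fun i j => congrFun (h i i.2) j,
    fun h i hi => funext fun j => congrFun (congrFun h ⟨i, hi⟩) j⟩

theorem dec_ne {A B : FM} (h : eqM A B = false) : dec A ≠ dec B :=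
  fun e => by rw [(eqM_iff A B).2 e] at h; exact absurd h (by simp)

/-- All rows supported on the first `k` bits. -/
def allRows : ℕ → List Row
  | 0 => [(0, 0)]
  | k + 1 => (allRows k).flatMap fun r => [r, (r.1 + 2 ^ k, r.2), (r.1 + 2 ^ k, r.2 + 2 ^ k)]

theorem allRows_lt : ∀ k, ∀ r ∈ allRows k, r.1 < 2 ^ k ∧ r.2 < 2 ^ k
  | 0, r, h => by simp [allRows] at h; subst h; simp
  | k + 1, r, h => by
    simp only [allRows, List.mem_flatMap, List.mem_cons, List.not_mem_nil, or_false] at h
    obtain ⟨s, hs, h⟩ := h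
    have := allRows_lt k s hs
    rw [pow_succ]
    rcases h with rfl | rfl | rfl <;> constructor <;> (try dsimp only) <;> omega

theorem testBit_add_pow {a k j : ℕ} (ha : a < 2 ^ k) :
    (a + 2 ^ k).testBit j = if j = k then true else a.testBit j := by
  rw [add_comm]
  split_ifs with h
  · subst h; rw [Nat.testBit_two_pow_add_eq, Nat.testBit_lt_two_pow ha]; rfl
  · rcases lt_or_gt_of_ne h with hl | hl
    · exact Nat.testBit_two_pow_add_gt hl a
    · rw [Nat.testBit_lt_two_pow (i := j)
        (x := 2 ^ k + a) (lt_of_lt_of_le (by rw [pow_succ]; omega) (Nat.pow_le_pow_right (by norm_num) hl)),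
        Nat.testBit_lt_two_pow (lt_trans ha (Nat.pow_lt_pow_right (by norm_num) hl))]

theorem exists_row (v : ℕ → F3) : ∀ k, ∃ r ∈ allRows k, ∀ j, j < k → rv r j = v j
  | 0 => ⟨(0, 0), by simp [allRows], fun j hj => absurd hj (by omega)⟩
  | k + 1 => by
    obtain ⟨r, hr, h⟩ := exists_row v k
    obtain ⟨h1, h2⟩ := allRows_lt k r hr
    have hv : v k = 0 ∨ v k = 1 ∨ v k = -1 := by
      generalize v k = x
      revert x; decide
    have hne : ∀ {j}, j < k + 1 → j ≠ k → j < k := fun hj hne => by omega
    rcases hv with hv | hv | hv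
    · refine ⟨r, List.mem_flatMap.2 ⟨r, hr, by simp⟩, fun j hj => ?_⟩
      by_cases e : j = k
      · subst e
        simp [rv, val, Nat.testBit_lt_two_pow h1, hv]
      · exact h j (hne hj e)
    · refine ⟨(r.1 + 2 ^ k, r.2), List.mem_flatMap.2 ⟨r, hr, by simp⟩, fun j hj => ?_⟩
      by_cases e : j = k
      · subst e
        simp [rv, val, testBit_add_pow h1, Nat.testBit_lt_two_pow h2, hv]
      · simpa [rv, val, testBit_add_pow h1, e] using h j (hne hj e)
    · refine ⟨(r.1 + 2 ^ k, r.2 + 2 ^ k), List.mem_flatMap.2 ⟨r, hr, by simp⟩, fun j hj => ?_⟩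
      by_cases e : j = k
      · subst e
        simp [rv, val, testBit_add_pow h1, testBit_add_pow h2, hv]
      · simpa [rv, val, testBit_add_pow h1, testBit_add_pow h2, e] using h j (hne hj e)

theorem exists_vec (v : V7) : ∃ r ∈ allRows 7, vec r = v := by
  obtain ⟨r, hr, h⟩ := exists_row (fun j => if hj : j < 7 then v ⟨j, hj⟩ else 0) 7
  exact ⟨r, hr, funext fun j => by simpa [vec, j.2] using h j j.2⟩

theorem allRows_length : (allRows 7).length = 2187 := by decide +kernel

end H94.O7
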