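import Cfsg.Agent.H38.POmegaStd
import Cfsg.Agent.H94.O7.Mat

/-! The group `Ω₇(3)` on `Fin 7`. -/

set_option autoImplicit false

namespace H94.O7

open Matrix

noncomputable def q7 : QuadraticForm F3 V7 :=
  QuadraticMap.proj 3 3 + QuadraticMap.proj 0 6 + QuadraticMap.proj 1 5 + QuadraticMap.proj 2 4

theorem q7_apply (v : V7) : q7 v = v 3 * v 3 + v 0 * v 6 + v 1 * v 5 + v 2 * v 4 := by
  simp [q7]

theorem polB_q7 (u v : V7) : H43.polB q7 u v =
    2 * u 3 * v 3 + (u 0 * v 6 + u 6 * v 0) + (u 1 * v 5 + u 5 * v 1) + (u 2 * v 4 + u 4 * v 2) := by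
  rw [H43.polB_apply, QuadraticMap.polar, q7_apply, q7_apply, q7_apply]
  simp only [Pi.add_apply]
  ring

def J : M7 := !![0,0,0,0,0,0,1; 0,0,0,0,0,1,0; 0,0,0,0,1,0,0; 0,0,0,2,0,0,0; 0,0,1,0,0,0,0;
  0,1,0,0,0,0,0; 1,0,0,0,0,0,0]

theorem polB_eq_J (u v : V7) : H43.polB q7 u v = u ⬝ᵥ (J *ᵥ v) := by
  rw [polB_q7]
  simp [J, dotProduct, mulVec, Fin.sum_univ_seven]
  ring

theorem q7_eq_J (v : V7) : q7 v = 2 * (v ⬝ᵥ (J *ᵥ v)) := by
  rw [← polB_eq_J, H43.polB_apply, QuadraticMap.polar_self]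
  rw [two_nsmul, ← two_mul, ← mul_assoc, show (2 * 2 : F3) = 1 from by decide, one_mul]

theorem q7_nondeg : (H43.polB q7).Nondegenerate := by
  refine H43.nondeg_of_left _ fun u h => funext fun j => ?_
  have hJ : u ᵥ* J = 0 := funext fun k => by
    rw [← dotProduct_single_one (u ᵥ* J) k, ← dotProduct_mulVec, ← polB_eq_J, h]; rfl
  have hu : u = u ᵥ* J ᵥ* J := by
    rw [vecMul_vecMul, show J * J = 1 from by decide +kernel, vecMul_one]
  rw [hu, hJ, zero_vecMul]

noncomputable abbrev I7 := Cfsg.isometryGroup F3 ⇑q7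

theorem J_sq : J * J = 1 := by decide +kernel

theorem coe_mul (g h : I7) :
    ((g * h : I7) : GL (Fin 7) F3).val = (g : GL (Fin 7) F3).val * (h : GL (Fin 7) F3).val := rfl

/-- Underlying matrix. -/
noncomputable def mat (g : I7) : M7 := (g : GL (Fin 7) F3).val

theorem mat_mul (g h : I7) : mat (g * h) = mat g * mat h := rfl

theorem mat_one : mat 1 = 1 := rfl

theorem mat_inj {g h : I7} (e : mat g = mat h) : g = h := Subtype.ext (Units.ext e)

theorem mat_pow (g : I7) (n : ℕ) : mat (g ^ n) = mat g ^ n := by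
  induction n with
  | zero => rfl
  | succ n ih => rw [pow_succ, mat_mul, ih, pow_succ]

theorem mat_iso (g : I7) : (mat g)ᵀ * J * mat g = J := by
  have hp : ∀ u v, H43.polB q7 (mat g *ᵥ u) (mat g *ᵥ v) = H43.polB q7 u v := by
    intro u v
    have e : ∀ w, q7 (mat g *ᵥ w) = q7 w := fun w => g.2 w w
    rw [H43.polB_apply, H43.polB_apply, QuadraticMap.polar, QuadraticMap.polar, ← mulVec_add, e, e, e]
  ext i j
  have := hp (Pi.single i 1) (Pi.single j 1)
  rw [polB_eq_J, polB_eq_J, mulVec_mulVec, dotProduct_mulVec, ← mulVec_transpose,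
    mulVec_mulVec, ← vecMul_transpose] at this
  simpa [Matrix.mul_assoc, dotProduct_single_one, single_one_dotProduct] using this

theorem iso_of_eq {M : M7} (h : Mᵀ * J * M = J) (v : V7) : q7 (M *ᵥ v) = q7 v := by
  rw [q7_eq_J, q7_eq_J, mulVec_mulVec, dotProduct_mulVec, ← vecMul_transpose, vecMul_vecMul,
    ← Matrix.mul_assoc, h, ← dotProduct_mulVec]

/-- Build an isometry. -/
noncomputable def mkI (M : M7) (h : Mᵀ * J * M = J) : I7 :=
  have h1 : J * Mᵀ * J * M = 1 := by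
    rw [Matrix.mul_assoc J, Matrix.mul_assoc J, h, J_sq]
  ⟨⟨M, J * Mᵀ * J, mul_eq_one_comm.1 h1, h1⟩, fun u _ => iso_of_eq h u⟩

theorem mat_mkI (M : M7) (h : Mᵀ * J * M = J) : mat (mkI M h) = M := rfl

/-- Right action on row vectors also preserves the form. -/
theorem row_iso (g : I7) (v : V7) : q7 (v ᵥ* mat g) = q7 v := by
  have h := mat_iso g
  have h1 : J * (mat g)ᵀ * J * mat g = 1 := by
    rw [Matrix.mul_assoc J, Matrix.mul_assoc J, h, J_sq]
  have h2 : mat g * J * (mat g)ᵀ = J := by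
    calc mat g * J * (mat g)ᵀ = mat g * (J * (mat g)ᵀ * J) * J := by
          simp only [Matrix.mul_assoc, J_sq, Matrix.mul_one]
      _ = J := by rw [mul_eq_one_comm.1 h1, Matrix.one_mul]
  rw [← mulVec_transpose]
  exact iso_of_eq (by rw [transpose_transpose, h2]) v

noncomputable abbrev W7 := Cfsg.Omega F3 ⇑q7

theorem W7_index : W7.index = 4 :=
  (H38.omega_index_eq (f := ⇑q7) rfl q7_nondeg (by simp)).1 (by decide)

theorem mem_W7_of_cube {g : I7} (h : g ^ 3 = 1) : g ∈ W7 := by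
  rw [← QuotientGroup.eq_one_iff, ← orderOf_eq_one_iff]
  have h3 : orderOf ((g : I7) : I7 ⧸ W7) ∣ 3 := orderOf_dvd_of_pow_eq_one (by
    rw [← QuotientGroup.mk_pow, h]; rfl)
  have h4 : orderOf ((g : I7) : I7 ⧸ W7) ∣ 4 := by
    rw [← W7_index]
    exact orderOf_dvd_natCard _
  exact Nat.dvd_one.1 ((show Nat.gcd 3 4 = 1 by norm_num) ▸ Nat.dvd_gcd h3 h4)

abbrev ι7 := Unit ⊕ (Fin 3 ⊕ Fin 3)

def sigma : Fin 7 ≃ ι7 where
  toFun := ![.inr (.inl 0), .inr (.inl 1), .inr (.inl 2), .inl (), .inr (.inr 2), .inr (.inr 1),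
    .inr (.inr 0)]
  invFun := Sum.elim (fun _ => 3) (Sum.elim ![0, 1, 2] ![6, 5, 4])
  left_inv i := by fin_cases i <;> rfl
  right_inv i := by rcases i with i | i | i <;> fin_cases i <;> rfl

theorem q7_sigma (v : ι7 → F3) : q7 (v ∘ sigma) = Cfsg.quadFormOdd 3 F3 v := by
  simp [q7_apply, Cfsg.quadFormOdd, Fin.sum_univ_three, sigma, pow_two, add_assoc]

abbrev IO := Cfsg.isometryGroup F3 (Cfsg.quadFormOdd 3 F3)
abbrev WO := Cfsg.Omega F3 (Cfsg.quadFormOdd 3 F3)

noncomputable def glE : GL (Fin 7) F3 ≃* GL ι7 F3 :=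
  Units.mapEquiv (Matrix.reindexAlgEquiv F3 F3 sigma).toMulEquiv

theorem glE_mulVec (g : GL (Fin 7) F3) (v : ι7 → F3) :
    ((glE g).val *ᵥ v) ∘ sigma = g.val *ᵥ (v ∘ sigma) := by
  show ((Matrix.reindex sigma sigma g.val) *ᵥ v) ∘ sigma = _
  rw [Matrix.reindex_apply, Matrix.submatrix_mulVec_equiv]
  funext i
  simp

theorem map_glE : (I7 : Subgroup (GL (Fin 7) F3)).map glE.toMonoidHom = IO := by
  ext g
  rw [Subgroup.mem_map_equiv]
  have key : ∀ v, (g.val *ᵥ v) ∘ sigma = (glE.symm g).val *ᵥ (v ∘ sigma) := fun v => by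
    rw [← glE_mulVec, MulEquiv.apply_symm_apply]
  constructor
  · intro h u w
    show Cfsg.quadFormOdd 3 F3 (g.val *ᵥ u) = Cfsg.quadFormOdd 3 F3 u
    rw [← q7_sigma, ← q7_sigma, key]
    exact h (u ∘ sigma) (u ∘ sigma)
  · intro h u w
    show q7 ((glE.symm g).val *ᵥ u) = q7 u
    have hu : u = (u ∘ sigma.symm) ∘ sigma := by funext i; simp
    rw [hu, ← key, q7_sigma, q7_sigma]
    exact h (u ∘ sigma.symm) (u ∘ sigma.symm)

noncomputable def isoI : I7 ≃* IO :=
  (glE.subgroupMap I7).trans (MulEquiv.subgroupCongr map_glE)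

noncomputable def isoW : W7 ≃* WO :=
  (isoI.subgroupMap W7).trans (MulEquiv.subgroupCongr (by
    show (commutator I7).map _ = commutator IO
    rw [commutator_def, Subgroup.map_commutator,
      Subgroup.map_top_of_surjective _ isoI.surjective, commutator_def]))

theorem center_card : Nat.card (Subgroup.center WO) = 1 := by
  have h2 : (2 : F3) ≠ 0 := by decide
  have hmul := H38.card_POmega_mul (F := F3) (f := Cfsg.quadFormOdd 3 F3)
  have hc := H38.card_pomega_odd' (F := F3) h2 3 (by norm_num)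
  have hidx := (H38.omega_index_eq (H43.coe_qOdd 3 F3) (H43.qOdd_nondeg h2 3) (by simp)).1 h2
  rw [hidx, H38.card_odd h2 3] at hmul
  norm_num [Finset.prod_range_succ, ZMod.card, -Nat.card_eq_fintype_card] at hc hmul
  have hP : Nat.card (Cfsg.POmega F3 (Cfsg.quadFormOdd 3 F3)) = 4585351680 := by omega
  rw [hP] at hmul
  show Nat.card ↥(Subgroup.center ↥(Cfsg.Omega F3 (Cfsg.quadFormOdd 3 F3))) = 1
  generalize Nat.card ↥(Subgroup.center ↥(Cfsg.Omega F3 (Cfsg.quadFormOdd 3 F3))) = c at hmul ⊢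
  omega

noncomputable def isoP : W7 ≃* Cfsg.POmega F3 (Cfsg.quadFormOdd 3 F3) :=
  isoW.trans ((QuotientGroup.quotientBot (G := WO)).symm.trans (QuotientGroup.quotientMulEquivOfEq
    (Subgroup.eq_bot_of_card_eq _ center_card).symm))

theorem W7_card : Nat.card W7 = 4585351680 := by
  have h2 : (2 : F3) ≠ 0 := by decide
  have hc := H38.card_pomega_odd' (F := F3) h2 3 (by norm_num)
  rw [← Nat.card_congr isoP.toEquiv] at hc
  simp [Finset.prod_range_succ, ZMod.card] at hc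
  omega

end H94.O7
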