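import Cfsg.Agent.H94.O7.Gen

/-! Data for the centralizer of a representative. -/

set_option autoImplicit false
set_option maxRecDepth 20000

namespace H94.O7

/-- Orbit tree of rows. -/
inductive VT
  | nil
  | node (g : ℕ) (child sib : VT)

def rowE : Row := (4, 0)
def rowF : Row := (1, 0)
def rowG : Row := (32, 0)

def gensE : List (List (Fin 36)) := [
  [8],
  [4],
  [1],
  [0],
  [2, 5],
  [9, 1, 27],
  [9, 0, 27]]

def orbE0 : VT := (.node 0 (.node 0 (.node 2 (.node 2 (.node 5 .nil .nil) (.node 5 .nil (.node 6 (.node 2 .nil (.node 4 (.node 4 .nil .nil) .nil)) .nil))) (.node 4 (.node 4 (.node 5 (.node 5 .nil .nil) (.node 6 (.node 3 .nil (.node 4 .nil (.node 6 .nil .nil))) .nil)) (.node 5 (.node 5 .nil (.node 6 (.node 4 .nil (.node 6 .nil .nil)) .nil)) (.node 6 (.node 2 (.node 2 .nil (.node 3 .nil (.node 6 .nil .nil))) (.node 3 .nil (.node 4 (.node 4 .nil .nil) (.node 6 (.node 2 .nil .nil) .nil)))) .nil)))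 (.node 5 (.node 5 .nil .nil) .nil))) (.node 2 (.node 2 (.node 5 .nil .nil) (.node 4 (.node 5 .nil (.node 6 (.node 3 .nil (.node 4 .nil (.node 6 (.node 2 .nil .nil) .nil))) .nil)) (.node 5 .nil (.node 6 (.node 2 .nil (.node 4 (.node 4 (.node 0 .nil (.node 6 .nil .nil)) .nil) .nil)) .nil)))) (.node 4 (.node 0 (.node 4 (.node 5 .nil (.node 6 (.node 3 .nil .nil) .nil)) (.node 5 (.node 5 .nil (.node 6 (.node 3 .nil (.node 6 .nil .nil)) .nil)) (.node 6 (.node 3 .nil (.node 4 .nil (.node 6 (.node 2 .nil (.node 4 .nil .nil)) .nil))) .nil))) (.node 4 (.node 0 (.node 5 .nil (.node 6 (.node 4 .nil .nil) .nil)) (.node 5 (.node 5 (.node 6 .nil .nil) (.node 6 (.node 4 .nil .nil) .nil)) (.node 6 (.node 2 (.node 3 .nil (.node 4 .nil .nil)) (.node 3 .nil (.node 4 .nil (.node 6 .nil .nil)))) .nil))) (.node 5 (.node 5 (.node 6 .nil .nil) (.node 6 (.node 3 .nil (.node 4 .nil (.node 6 .nil .nil))) .nil)) (.node 6 (.node 2 (.node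 2 (.node 3 .nil .nil) (.node 3 .nil (.node 4 .nil (.node 6 .nil .nil)))) (.node 3 (.node 4 .nil .nil) (.node 4 (.node 0 .nil (.node 1 .nil (.node 4 .nil .nil))) (.node 6 (.node 2 .nil .nil) .nil)))) .nil)))) (.node 5 (.node 5 .nil .nil) .nil)))) (.node 2 (.node 2 (.node 4 (.node 5 .nil (.node 6 (.node 4 .nil (.node 6 (.node 4 .nil .nil) .nil)) .nil)) (.node 5 .nil .nil)) (.node 4 (.node 4 (.node 5 .nil (.node 6 (.node 2 .nil (.node 3 .nil (.node 4 (.node 0 .nil .nil) (.node 6 .nil .nil)))) .nil)) (.node 5 .nil (.node 6 (.node 2 (.node 3 .nil (.node 6 .nil .nil)) (.node 3 .nil (.node 4 (.node 0 .nil .nil) (.node 6 (.node 2 .nil .nil) .nil)))) .nil))) (.node 5 .nil (.node 6 (.node 2 (.node 4 (.node 4 .nil .nil) .nil) (.node 4 (.node 4 (.node 0 .nil (.node 6 (.node 4 .nil .nil) .nil)) (.node 6 (.node 3 .nil (.node 4 .nil .nil)) .nil)) .nil)) .nil)))) (.node 4 (.node 0 (.node 0 (.node 5 .nil (.node 6 (.node 3 .nil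 (.node 4 .nil (.node 6 .nil .nil))) .nil)) (.node 4 (.node 5 (.node 6 .nil .nil) (.node 6 (.node 3 .nil .nil) .nil)) (.node 5 (.node 5 .nil (.node 6 (.node 3 .nil (.node 6 .nil .nil)) .nil)) (.node 6 (.node 3 .nil (.node 4 .nil (.node 6 (.node 2 .nil (.node 4 .nil .nil)) .nil))) .nil)))) (.node 4 (.node 0 (.node 5 .nil (.node 6 (.node 3 .nil (.node 4 (.node 0 .nil .nil) .nil)) .nil)) (.node 1 (.node 5 .nil (.node 6 (.node 3 .nil (.node 4 .nil .nil)) .nil)) (.node 5 (.node 5 (.node 6 .nil .nil) (.node 6 (.node 4 .nil .nil) .nil)) (.node 6 (.node 2 (.node 3 .nil (.node 4 .nil .nil)) (.node 3 (.node 4 .nil .nil) (.node 4 (.node 6 .nil .nil) (.node 6 (.node 4 .nil .nil) .nil)))) .nil)))) (.node 5 (.node 5 (.node 6 (.node 6 .nil .nil) .nil) (.node 6 (.node 3 (.node 3 .nil .nil) (.node 4 (.node 1 .nil (.node 4 .nil .nil)) (.node 6 (.node 4 .nil .nil) .nil))) .nil)) (.node 6 (.node 2 (.node 2 (.node 3 .nil .nil) (.node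 3 .nil (.node 4 .nil (.node 6 (.node 4 (.node 4 .nil .nil) .nil) .nil)))) (.node 3 (.node 4 (.node 0 .nil .nil) (.node 5 .nil .nil)) (.node 4 (.node 0 (.node 0 .nil .nil) (.node 1 (.node 4 .nil .nil) (.node 4 (.node 1 .nil .nil) .nil))) (.node 6 (.node 2 (.node 4 .nil .nil) (.node 4 (.node 1 .nil (.node 4 .nil .nil)) .nil)) .nil)))) .nil)))) (.node 5 (.node 5 .nil .nil) .nil))))

def orbE1 : VT := (.node 0 (.node 0 (.node 2 (.node 2 (.node 5 .nil .nil) (.node 5 .nil (.node 6 (.node 2 .nil (.node 4 (.node 4 .nil .nil) .nil)) .nil))) (.node 4 (.node 4 (.node 5 (.node 5 .nil .nil) (.node 6 (.node 3 .nil (.node 4 .nil (.node 6 .nil .nil))) .nil)) (.node 5 (.node 5 .nil (.node 6 (.node 4 .nil (.node 6 .nil .nil)) .nil)) (.node 6 (.node 2 (.node 2 .nil (.node 3 .nil (.node 6 .nil .nil))) (.node 3 .nil (.node 4 (.node 4 .nil .nil) (.node 6 (.node 2 .nil .nil) .nil)))) .nil))) (.node 5 (.node 5 .nil .nil) .nil))) (.node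 2 (.node 2 (.node 5 .nil .nil) (.node 4 (.node 5 .nil (.node 6 (.node 3 .nil (.node 4 .nil (.node 6 (.node 2 .nil .nil) .nil))) .nil)) (.node 5 .nil (.node 6 (.node 2 .nil (.node 4 (.node 4 (.node 0 .nil (.node 6 .nil .nil)) .nil) .nil)) .nil)))) (.node 4 (.node 0 (.node 4 (.node 5 .nil (.node 6 (.node 3 .nil .nil) .nil)) (.node 5 (.node 5 .nil (.node 6 (.node 3 .nil (.node 6 .nil .nil)) .nil)) (.node 6 (.node 3 .nil (.node 4 .nil (.node 6 (.node 2 .nil (.node 4 .nil .nil)) .nil))) .nil))) (.node 4 (.node 0 (.node 5 .nil (.node 6 (.node 4 .nil .nil) .nil)) (.node 5 (.node 5 (.node 6 .nil .nil) (.node 6 (.node 4 .nil .nil) .nil)) (.node 6 (.node 2 (.node 3 .nil (.node 4 .nil .nil)) (.node 3 .nil (.node 4 .nil (.node 6 .nil .nil)))) .nil))) (.node 5 (.node 5 (.node 6 .nil .nil) (.node 6 (.node 3 .nil (.node 4 .nil (.node 6 .nil .nil))) .nil)) (.node 6 (.node 2 (.node 2 (.node 3 .nil .nil) (.node 3 .nil (.node 4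 .nil (.node 6 .nil .nil)))) (.node 3 (.node 4 .nil .nil) (.node 4 (.node 0 .nil (.node 1 .nil (.node 4 .nil .nil))) (.node 6 (.node 2 .nil .nil) .nil)))) .nil)))) (.node 5 (.node 5 .nil .nil) .nil)))) (.node 2 (.node 2 (.node 4 (.node 5 .nil (.node 6 (.node 4 .nil (.node 6 (.node 4 .nil .nil) .nil)) .nil)) (.node 5 .nil .nil)) (.node 4 (.node 4 (.node 5 .nil (.node 6 (.node 2 .nil (.node 3 .nil (.node 4 (.node 0 .nil .nil) (.node 6 .nil .nil)))) .nil)) (.node 5 .nil (.node 6 (.node 2 (.node 3 .nil (.node 6 .nil .nil)) (.node 3 .nil (.node 4 (.node 0 .nil .nil) (.node 6 (.node 2 .nil .nil) .nil)))) .nil))) (.node 5 .nil (.node 6 (.node 2 (.node 4 (.node 4 .nil .nil) .nil) (.node 4 (.node 4 (.node 0 .nil (.node 6 (.node 4 .nil .nil) .nil)) (.node 6 (.node 3 .nil (.node 4 .nil .nil)) .nil)) .nil)) .nil)))) (.node 4 (.node 0 (.node 0 (.node 5 .nil (.node 6 (.node 3 .nil (.node 4 .nil (.node 6 .nil .nil))) .nil))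 (.node 4 (.node 5 (.node 6 .nil .nil) (.node 6 (.node 3 .nil .nil) .nil)) (.node 5 (.node 5 .nil (.node 6 (.node 3 .nil (.node 6 .nil .nil)) .nil)) (.node 6 (.node 3 .nil (.node 4 .nil (.node 6 (.node 2 .nil (.node 4 .nil .nil)) .nil))) .nil)))) (.node 4 (.node 0 (.node 5 .nil (.node 6 (.node 3 .nil (.node 4 (.node 0 .nil .nil) .nil)) .nil)) (.node 1 (.node 5 .nil (.node 6 (.node 3 .nil (.node 4 .nil .nil)) .nil)) (.node 5 (.node 5 (.node 6 .nil .nil) (.node 6 (.node 4 .nil .nil) .nil)) (.node 6 (.node 2 (.node 3 .nil (.node 4 .nil .nil)) (.node 3 (.node 4 .nil .nil) (.node 4 (.node 6 .nil .nil) (.node 6 (.node 4 .nil .nil) .nil)))) .nil)))) (.node 5 (.node 5 (.node 6 (.node 6 .nil .nil) .nil) (.node 6 (.node 3 (.node 3 .nil .nil) (.node 4 (.node 1 .nil (.node 4 .nil .nil)) (.node 6 (.node 4 .nil .nil) .nil))) .nil)) (.node 6 (.node 2 (.node 2 (.node 3 .nil .nil) (.node 3 .nil (.node 4 .nil (.node 6 (.node 4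 (.node 4 .nil .nil) .nil) .nil)))) (.node 3 (.node 4 (.node 0 .nil .nil) (.node 5 .nil .nil)) (.node 4 (.node 0 (.node 0 .nil .nil) (.node 1 (.node 4 .nil .nil) (.node 4 (.node 1 .nil .nil) .nil))) (.node 6 (.node 2 (.node 4 .nil .nil) (.node 4 (.node 1 .nil (.node 4 .nil .nil)) .nil)) .nil)))) .nil)))) (.node 5 (.node 5 .nil .nil) .nil))))

def gensF' : List (List (Fin 36)) := [
  [4],
  [0],
  [9, 0, 27]]

def orbF0 : VT := (.node 0 (.node 0 (.node 1 (.node 1 (.node 2 .nil .nil) .nil) (.node 2 (.node 1 (.node 1 .nil .nil) (.node 2 .nil .nil)) .nil)) (.node 1 (.node 1 (.node 2 .nil .nil) .nil) (.node 2 (.node 1 (.node 1 .nil .nil) (.node 2 .nil .nil)) .nil))) (.node 1 (.node 1 (.node 2 .nil .nil) .nil) (.node 2 (.node 1 (.node 1 .nil .nil) (.node 2 .nil .nil)) .nil)))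

def gensG : List (List (Fin 36)) := [
  [0, 9, 0, 27, 0, 0]]

def orbG0 : VT := (.node 0 (.node 0 .nil .nil) .nil)

def basisInv : FM := [(8, 0), (16, 16), (1, 0), (6, 0), (4, 0), (32, 0), (64, 0)]

end H94.O7
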