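import Cfsg.Agent.H94.O7.Cert
import Cfsg.Agent.H94.O7.OrbData

/-! The centralizer of the sixth representative in `SO₇(3)` lies in `Ω₇(3)`. -/

set_option autoImplicit false

namespace H94.O7

open Matrix

def aF : FM := wF (rootWords.getD 5 [])

/-- The action of `x - 1` on rows. -/
def nR (v : Row) : Row := radd (rmul aF v) (rneg v)

theorem vec_radd (a b : Row) : vec (radd a b) = vec a + vec b := funext fun j => rv_add a b j
theorem vec_rneg (a : Row) : vec (rneg a) = -vec a := funext fun j => rv_neg a j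

theorem vec_nR (v : Row) : vec (nR v) = vec v ᵥ* (dec aF) - vec v := by
  rw [nR, vec_radd, vec_rmul, vec_rneg, sub_eq_add_neg]

def qR (r : Row) : F3 := rv r 3 * rv r 3 + rv r 0 * rv r 6 + rv r 1 * rv r 5 + rv r 2 * rv r 4

theorem qR_eq (r : Row) : qR r = q7 (vec r) := by rw [q7_apply]; rfl

def bR (a b : Row) : F3 := qR (radd a b) - qR a - qR b

theorem bR_eq (a b : Row) : bR a b = H43.polB q7 (vec a) (vec b) := by
  rw [bR, qR_eq, qR_eq, qR_eq, vec_radd, H43.polB_apply]; rfl

/-- The element negating everything. -/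
noncomputable def negI : I7 := mkI (-1) (by simp)

def collectV (gens : List (List (Fin 36))) : VT → Row → List Row
  | .nil, _ => []
  | .node g c s, v =>
    let v' := rmul (wF (gens.getD g [])) v
    v' :: (collectV gens c v' ++ collectV gens s v)

theorem collectV_sound (gens : List (List (Fin 36))) (S : Subgroup W7)
    (hS : ∀ g, wW (gens.getD g []) ∈ S) : ∀ (t : VT) (v : Row), ∀ p ∈ collectV gens t v,
    ∃ c ∈ S, vec p = vec v ᵥ* wm c
  | .nil, v, p, hp => by simp [collectV] at hp
  | .node g c s, v, p, hp => by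
    simp only [collectV, List.mem_cons, List.mem_append] at hp
    rcases hp with rfl | hp | hp
    · exact ⟨_, hS g, by rw [vec_rmul, dec_wF]⟩
    · obtain ⟨k, hk, h⟩ := collectV_sound gens S hS c _ p hp
      exact ⟨wW (gens.getD g []) * k, mul_mem (hS g) hk, by
        rw [h, vec_rmul, dec_wF, vecMul_vecMul, wm_mul]⟩
    · exact collectV_sound gens S hS s v p hp

def orbitList (gens : List (List (Fin 36))) (t : VT) (v : Row) : List Row := v :: collectV gens t v

theorem orbitList_sound (gens : List (List (Fin 36))) (S : Subgroup W7)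
    (hS : ∀ g, wW (gens.getD g []) ∈ S) (t : VT) (v : Row) :
    ∀ p ∈ orbitList gens t v, ∃ c ∈ S, vec p = vec v ᵥ* wm c := by
  intro p hp
  rcases List.mem_cons.1 hp with rfl | hp
  · exact ⟨1, one_mem _, by rw [wm_one, vecMul_one]⟩
  · exact collectV_sound gens S hS t v p hp

def codeMask : List Row → ℕ
  | [] => 0
  | p :: l => (bif Nat.ble p.1 127 && Nat.ble p.2 127 then 2 ^ (p.1 + 128 * p.2) else 0) ||| codeMask l

theorem codeMask_mem : ∀ (l : List Row) {r : Row}, r.1 < 128 → r.2 < 128 →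
    (codeMask l).testBit (r.1 + 128 * r.2) = true → r ∈ l
  | [], r, _, _, h => by simp [codeMask] at h
  | p :: l, r, h1, h2, h => by
    rw [codeMask, Nat.testBit_or, Bool.or_eq_true] at h
    rcases h with h | h
    · cases hb : (Nat.ble p.1 127 && Nat.ble p.2 127)
      · rw [hb] at h; simp at h
      · rw [hb, cond_true, Nat.testBit_two_pow, decide_eq_true_eq] at h
        simp only [Bool.and_eq_true, Nat.ble_eq] at hb
        exact List.mem_cons.2 (Or.inl (Prod.ext (by omega) (by omega)))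
    · exact List.mem_cons_of_mem _ (codeMask_mem l h1 h2 h)

/-- Membership certificate: every row satisfying `cond` occurs in the list. -/
def coverR (cond : Row → Bool) (l : List Row) : Bool :=
  (allRows 7).all fun r => !cond r || (codeMask l).testBit (r.1 + 128 * r.2)

theorem coverR_mem {cond : Row → Bool} {l : List Row} (h : coverR cond l = true) {r : Row}
    (hr : r ∈ allRows 7) (hc : cond r = true) : r ∈ l := by
  have := List.all_eq_true.1 h r hr
  rw [hc, Bool.not_true, Bool.false_or] at this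
  obtain ⟨h1, h2⟩ := allRows_lt 7 r hr
  exact codeMask_mem l h1 h2 this

noncomputable def Cx : Subgroup W7 := Subgroup.centralizer {rootW 5}

noncomputable def fixR (r : Row) : Subgroup W7 where
  carrier := {c | vec r ᵥ* wm c = vec r}
  mul_mem' {a b} ha hb := by
    show vec r ᵥ* wm (a * b) = vec r
    rw [wm_mul, ← vecMul_vecMul, ha, hb]
  one_mem' := by show vec r ᵥ* wm 1 = vec r; rw [wm_one, vecMul_one]
  inv_mem' {a} ha := by
    show vec r ᵥ* wm a⁻¹ = vec r
    conv_lhs => rw [← ha]
    rw [vecMul_vecMul, ← wm_mul, mul_inv_cancel, wm_one, vecMul_one]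

def commCheck (gens : List (List (Fin 36))) : Bool :=
  gens.all fun w => eqM (mul (wF w) aF) (mul aF (wF w))

def fixCheck (gens : List (List (Fin 36))) (r : Row) : Bool :=
  gens.all fun w => eqR (rmul (wF w) r) r

theorem gens_mem_Cx {gens : List (List (Fin 36))} (h : commCheck gens = true) (g : ℕ) :
    wW (gens.getD g []) ∈ Cx := by
  rcases lt_or_ge g gens.length with hg | hg
  · rw [List.getD_eq_getElem _ _ hg, Cx, Subgroup.mem_centralizer_singleton_iff]
    refine wm_inj ?_
    have := (eqM_iff _ _).1 (List.all_eq_true.1 h _ (List.getElem_mem hg))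
    rw [dec_mul, dec_mul, aF, dec_wF, dec_wF] at this
    first
      | exact this
      | exact this.symm
  · rw [List.getD_eq_default _ _ hg]; exact one_mem _

theorem gens_mem_fix {gens : List (List (Fin 36))} {r : Row} (h : fixCheck gens r = true) (g : ℕ) :
    wW (gens.getD g []) ∈ fixR r := by
  rcases lt_or_ge g gens.length with hg | hg
  · rw [List.getD_eq_getElem _ _ hg]
    have := (eqR_iff _ _).1 (List.all_eq_true.1 h _ (List.getElem_mem hg))
    rw [vec_rmul, dec_wF] at this
    exact this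
  · rw [List.getD_eq_default _ _ hg]; exact one_mem _

theorem gensE_comm : commCheck gensE = true := by decide +kernel
theorem gensF_comm : commCheck gensF' = true := by decide +kernel
theorem gensG_comm : commCheck gensG = true := by decide +kernel
theorem gensF_fix : fixCheck gensF' rowE = true := by decide +kernel
theorem gensG_fix : fixCheck gensG rowE = true ∧ fixCheck gensG rowF = true := by decide +kernel

def eqb (a b : F3) : Bool := decide (a = b)

def condE (r : Row) : Bool :=
  eqb (qR r) (qR rowE) && eqb (bR r (nR (nR r))) (bR rowE (nR (nR rowE)))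

def condF (r : Row) : Bool :=
  eqR (nR (nR r)) (0, 0) && !eqR (nR r) (0, 0) && eqb (qR r) (qR rowF) &&
    eqb (bR r rowE) (bR rowF rowE) && eqb (bR r (nR rowE)) (bR rowF (nR rowE)) &&
    eqb (bR r (nR (nR rowE))) (bR rowF (nR (nR rowE)))

def condG (r : Row) : Bool :=
  eqR (nR (nR r)) (0, 0) && eqb (qR r) (qR rowG) &&
    eqb (bR r rowE) (bR rowG rowE) && eqb (bR r (nR rowE)) (bR rowG (nR rowE)) &&
    eqb (bR r (nR (nR rowE))) (bR rowG (nR (nR rowE))) &&
    eqb (bR r rowF) (bR rowG rowF) && eqb (bR r (nR rowF)) (bR rowG (nR rowF))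

theorem coverE : coverR condE (orbitList gensE orbE0 rowE ++ orbitList gensE orbE1 (rneg rowE)) = true := by
  decide +kernel
theorem coverF : coverR condF (orbitList gensF' orbF0 rowF) = true := by decide +kernel
theorem coverG : coverR condG (orbitList gensG orbG0 rowG) = true := by decide +kernel
theorem seedF : eqR (nR (nR rowF)) (0, 0) = true ∧ eqR (nR rowF) (0, 0) = false ∧
    eqR (nR (nR rowG)) (0, 0) = true := by decide +kernel

theorem polB_row (k : I7) (u v : V7) :
    H43.polB q7 (u ᵥ* mat k) (v ᵥ* mat k) = H43.polB q7 u v := by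
  rw [H43.polB_apply, H43.polB_apply, QuadraticMap.polar, QuadraticMap.polar, ← add_vecMul,
    row_iso, row_iso, row_iso]

/-- Rows fixed, commuting with the representative: images under `x - 1` are fixed too. -/
theorem nR_image {k : I7} (hk : mat k * dec aF = dec aF * mat k) {r r' : Row}
    (h : vec r' = vec r ᵥ* mat k) : vec (nR r') = vec (nR r) ᵥ* mat k := by
  rw [vec_nR, vec_nR, h, sub_vecMul, vecMul_vecMul, vecMul_vecMul, hk]

def basisRows : FM := [rowE, nR rowE, nR (nR rowE), rowF, nR rowF, rowG, nR rowG]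

theorem basis_inj : Function.Injective fun v : V7 => dec basisRows *ᵥ v := by
  have hdet : (dec basisRows).det ≠ 0 := by
    have : ∃ B : FM, eqM (mul basisRows B) one = true := ⟨basisInv, by decide +kernel⟩
    obtain ⟨B, hB⟩ := this
    have h := congrArg Matrix.det ((eqM_iff _ _).1 hB)
    rw [dec_mul, dec_one, det_mul, det_one] at h
    exact left_ne_zero_of_mul_eq_one h
  exact Matrix.mulVec_injective_iff_isUnit.2 ((Matrix.isUnit_iff_isUnit_det _).2 hdet.isUnit)

/-- The centralizer lemma. -/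
theorem cent_mem (k : I7) (hdet : (mat k).det = 1) (hk : mat k * dec aF = dec aF * mat k) :
    k ∈ W7 := by
  obtain ⟨r, hr, hre⟩ := exists_vec (vec rowE ᵥ* mat k)
  have n1 := nR_image hk hre
  have n2 := nR_image hk n1
  have hce : condE r = true := by
    simp only [condE, eqb, Bool.and_eq_true, decide_eq_true_eq, qR_eq, bR_eq]
    exact ⟨by rw [hre, row_iso], by rw [n2, hre, polB_row]⟩
  obtain ⟨c, hc, s, hs, hrc⟩ : ∃ c ∈ Cx, ∃ s : I7, (s = 1 ∨ s = negI) ∧
      vec r = vec rowE ᵥ* (mat s * wm c) := by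
    rcases List.mem_append.1 (coverR_mem coverE hr hce) with h | h
    · obtain ⟨c, hc, e⟩ := orbitList_sound _ Cx (gens_mem_Cx gensE_comm) _ _ r h
      exact ⟨c, hc, 1, Or.inl rfl, by rw [e, mat_one, Matrix.one_mul]⟩
    · obtain ⟨c, hc, e⟩ := orbitList_sound _ Cx (gens_mem_Cx gensE_comm) _ _ r h
      refine ⟨c, hc, negI, Or.inr rfl, ?_⟩
      rw [e, vec_rneg, negI, mat_mkI, neg_one_mul, neg_vecMul, vecMul_neg]
  have hcs : ∀ c ∈ Cx, mat c.1 * dec aF = dec aF * mat c.1 := by
    intro c hc
    have := congrArg wm (Subgroup.mem_centralizer_singleton_iff.1 hc)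
    rw [aF, dec_wF]
    first
      | exact this
      | exact this.symm
  have hss : mat s * dec aF = dec aF * mat s := by
    rcases hs with rfl | rfl <;> simp [negI, mat_mkI, mat_one]
  -- strip the first level
  have hinv : ∀ a : I7, mat a * dec aF = dec aF * mat a → mat a⁻¹ * dec aF = dec aF * mat a⁻¹ := by
    intro a ha
    calc mat a⁻¹ * dec aF = mat a⁻¹ * dec aF * (mat a * mat a⁻¹) := by
          rw [← mat_mul, mul_inv_cancel, mat_one, Matrix.mul_one]
      _ = mat a⁻¹ * (mat a * dec aF) * mat a⁻¹ := by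
          rw [ha]; simp only [Matrix.mul_assoc]
      _ = dec aF * mat a⁻¹ := by
          rw [← Matrix.mul_assoc (mat a⁻¹), ← mat_mul, inv_mul_cancel, mat_one, Matrix.one_mul]
  have hmulc : ∀ a b : I7, mat a * dec aF = dec aF * mat a → mat b * dec aF = dec aF * mat b →
      mat (a * b) * dec aF = dec aF * mat (a * b) := by
    intro a b ha hb
    rw [mat_mul, Matrix.mul_assoc, hb, ← Matrix.mul_assoc, ha, Matrix.mul_assoc]
  set k1 : I7 := k * (s * c.1)⁻¹ with hk1
  have hk1c := hmulc _ _ hk (hinv _ (hmulc _ _ hss (hcs c hc)))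
  have he1 : vec rowE ᵥ* mat k1 = vec rowE := by
    rw [hk1, mat_mul, ← vecMul_vecMul, ← hre, hrc, vecMul_vecMul,
      show mat s * wm c = mat (s * c.1) from rfl, ← mat_mul, mul_inv_cancel, mat_one, vecMul_one]
  -- second level
  obtain ⟨r2, hr2, hre2⟩ := exists_vec (vec rowF ᵥ* mat k1)
  have f1 := nR_image hk1c hre2
  have f2 := nR_image hk1c f1
  have e1 := nR_image hk1c he1.symm
  have e2 := nR_image hk1c e1
  have hcf : condF r2 = true := by
    simp only [condF, eqb, Bool.and_eq_true, decide_eq_true_eq, qR_eq, bR_eq, eqR_iff,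
      Bool.not_eq_true']
    refine ⟨⟨⟨⟨⟨?_, ?_⟩, ?_⟩, ?_⟩, ?_⟩, ?_⟩
    · rw [f2, (eqR_iff _ _).1 seedF.1]
      rw [show vec (0, 0) = 0 from funext fun j => rv_zero j, zero_vecMul]
    · rw [Bool.eq_false_iff]
      intro h
      rw [eqR_iff, f1, show vec (0, 0) = 0 from funext fun j => rv_zero j] at h
      have h' : vec (nR rowF) = 0 := by
        calc vec (nR rowF) = vec (nR rowF) ᵥ* mat k1 ᵥ* mat k1⁻¹ := by
              rw [vecMul_vecMul, ← mat_mul, mul_inv_cancel, mat_one, vecMul_one]
          _ = 0 := by rw [h, zero_vecMul]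
      have := seedF.2.1
      rw [Bool.eq_false_iff, ne_eq, eqR_iff, h'] at this
      exact this (funext fun j => (rv_zero j).symm)
    · rw [hre2, row_iso]
    · nth_rewrite 1 [← he1]; rw [hre2, polB_row]
    · nth_rewrite 1 [e1]; rw [hre2, polB_row]
    · nth_rewrite 1 [e2]; rw [hre2, polB_row]
  obtain ⟨c2, hc2, hrc2⟩ := orbitList_sound _ (Cx ⊓ fixR rowE)
    (fun g => ⟨gens_mem_Cx gensF_comm g, gens_mem_fix gensF_fix g⟩) _ _ r2 (coverR_mem coverF hr2 hcf)
  set k2 : I7 := k1 * (c2.1)⁻¹ with hk2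
  have hk2c := hmulc _ _ hk1c (hinv _ (hcs c2 hc2.1))
  have hfix2 : ∀ r : Row, vec r ᵥ* mat k1 = vec r ᵥ* wm c2 → vec r ᵥ* mat k2 = vec r := by
    intro r h
    rw [hk2, mat_mul, ← vecMul_vecMul, h, vecMul_vecMul, show wm c2 = mat c2.1 from rfl, ← mat_mul,
      mul_inv_cancel, mat_one, vecMul_one]
  have he2 : vec rowE ᵥ* mat k2 = vec rowE := hfix2 _ (he1.trans (hc2.2).symm)
  have hf2 : vec rowF ᵥ* mat k2 = vec rowF := hfix2 _ (hre2.symm.trans hrc2)
  -- third level
  obtain ⟨r3, hr3, hre3⟩ := exists_vec (vec rowG ᵥ* mat k2)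
  have g2 := nR_image hk2c (nR_image hk2c hre3)
  have e1' := nR_image hk2c he2.symm
  have e2' := nR_image hk2c e1'
  have f1' := nR_image hk2c hf2.symm
  have hcg : condG r3 = true := by
    simp only [condG, eqb, Bool.and_eq_true, decide_eq_true_eq, qR_eq, bR_eq, eqR_iff]
    refine ⟨⟨⟨⟨⟨⟨?_, ?_⟩, ?_⟩, ?_⟩, ?_⟩, ?_⟩, ?_⟩
    · rw [g2, (eqR_iff _ _).1 seedF.2.2, show vec (0, 0) = 0 from funext fun j => rv_zero j,
        zero_vecMul]
    · rw [hre3, row_iso]
    · nth_rewrite 1 [← he2]; rw [hre3, polB_row]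
    · nth_rewrite 1 [e1']; rw [hre3, polB_row]
    · nth_rewrite 1 [e2']; rw [hre3, polB_row]
    · nth_rewrite 1 [← hf2]; rw [hre3, polB_row]
    · nth_rewrite 1 [f1']; rw [hre3, polB_row]
  obtain ⟨c3, hc3, hrc3⟩ := orbitList_sound _ (Cx ⊓ fixR rowE ⊓ fixR rowF)
    (fun g => ⟨⟨gens_mem_Cx gensG_comm g, gens_mem_fix gensG_fix.1 g⟩, gens_mem_fix gensG_fix.2 g⟩)
    _ _ r3 (coverR_mem coverG hr3 hcg)
  set k3 : I7 := k2 * (c3.1)⁻¹ with hk3
  have hk3c := hmulc _ _ hk2c (hinv _ (hcs c3 hc3.1.1))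
  have hfix3 : ∀ r : Row, vec r ᵥ* mat k2 = vec r ᵥ* wm c3 → vec r ᵥ* mat k3 = vec r := by
    intro r h
    rw [hk3, mat_mul, ← vecMul_vecMul, h, vecMul_vecMul, show wm c3 = mat c3.1 from rfl, ← mat_mul,
      mul_inv_cancel, mat_one, vecMul_one]
  have he3 := hfix3 _ (he2.trans (hc3.1.2).symm)
  have hf3 := hfix3 _ (hf2.trans (hc3.2).symm)
  have hg3 := hfix3 _ (hre3.symm.trans hrc3)
  have hbase : dec basisRows * mat k3 = dec basisRows := by
    have E1 := nR_image hk3c he3.symm
    have E2 := nR_image hk3c E1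
    have F1 := nR_image hk3c hf3.symm
    have G1 := nR_image hk3c hg3.symm
    funext i
    have hrow : ∀ i : Fin 7, (dec basisRows * mat k3) i = dec basisRows i ᵥ* mat k3 := fun i => rfl
    rw [hrow]
    fin_cases i
    · exact he3
    · exact E1.symm
    · exact E2.symm
    · exact hf3
    · exact F1.symm
    · exact hg3
    · exact G1.symm
  have hk31 : k3 = 1 := by
    refine mat_inj (Matrix.ext_iff_mulVec.2 fun v => basis_inj ?_)
    show dec basisRows *ᵥ (mat k3 *ᵥ v) = dec basisRows *ᵥ (mat 1 *ᵥ v)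
    rw [mulVec_mulVec, hbase, mat_one, one_mulVec]
  have hkeq : k = c3.1 * c2.1 * (s * c.1) := by
    rw [← mul_inv_eq_iff_eq_mul, ← hk1, ← mul_inv_eq_iff_eq_mul, ← hk2, ← mul_inv_eq_one, ← hk3]
    exact hk31
  have hW : ∀ w : W7, (mat w.1).det = 1 := fun w => by
    have := ((H43.mem_commutator_iff_odd q7_nondeg (by decide) (by simp)
      (H43.toOrth q7 w.1)).1 ((H43.mem_Omega_iff w.1).1 w.2)).1
    have h := congrArg Units.val this
    rw [H43.coe_detHom, H43.toOrth_det] at h
    exact h
  rcases hs with rfl | rfl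
  · rw [hkeq, one_mul]
    exact mul_mem (mul_mem c3.2 c2.2) c.2
  · exfalso
    rw [hkeq, mat_mul, mat_mul, mat_mul, det_mul, det_mul, det_mul, hW, hW, hW, negI, mat_mkI] at hdet
    rw [one_mul, one_mul, mul_one, Matrix.det_neg, det_one, mul_one, Fintype.card_fin] at hdet
    exact (show ((-1 : F3)) ^ 7 ≠ 1 by decide) hdet

end H94.O7
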