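import Cfsg.Agent.H94.O7.CertData

/-! Every order-three element of `Ω₇(3)` is conjugate to one of seven representatives or its square. -/

set_option autoImplicit false

namespace H94.O7

open Matrix

def dig (c k : ℕ) : ℕ := c / 3 ^ k % 3

def uWord (c : ℕ) : List (Fin 36) :=
  List.replicate (dig c 4) 0 ++ List.replicate (dig c 3) 1 ++ List.replicate (dig c 2) 2 ++
    List.replicate (dig c 1) 3 ++ List.replicate (dig c 0) 4

def lWord (k : ℕ) : List (Fin 36) :=
  List.replicate (dig k 3) 5 ++ List.replicate (dig k 2) 6 ++ List.replicate (dig k 1) 7 ++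
    List.replicate (dig k 0) 8

def u1F (c : ℕ) : FM := wF (uWord c)
def lF (k : ℕ) : FM := wF (lWord k)

def n3 (c k : ℕ) : F3 := (dig c k : F3)

theorem u1F_eq : ∀ c : Fin 243, dec (u1F c) = M1 (n3 c 4) (n3 c 3) (n3 c 2) (n3 c 1) (n3 c 0) := by
  decide +kernel

theorem u2F_eq : ∀ a : Fin 27, dec (wF (lWord (3 * a.val))) = M2 (n3 a 2) (n3 a 1) (n3 a 0) := by
  decide +kernel

theorem u3F_eq : ∀ t : Fin 3, dec (wF (lWord t)) = M3 (t.val : F3) := by decide +kernel

theorem lWord_split : ∀ k : Fin 81, lWord k = lWord (3 * (k.val / 3)) ++ lWord (k.val % 3) := by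
  decide +kernel

theorem wW_append : ∀ a b, wW (a ++ b) = wW a * wW b
  | [], b => (one_mul _).symm
  | i :: a, b => by rw [List.cons_append, wW, wW, wW_append a b, mul_assoc]

theorem wW_uWord (c : Fin 243) : wW (uWord c) = u1 (n3 c 4, n3 c 3, n3 c 2, n3 c 1, n3 c 0) :=
  wm_inj (by rw [← dec_wF]; exact u1F_eq c)

theorem wW_lWord (k : Fin 81) : wW (lWord k) =
    u2 (n3 (k.val / 3) 2, n3 (k.val / 3) 1, n3 (k.val / 3) 0) * u3 ((k.val % 3 : ℕ) : F3) := by
  rw [lWord_split, wW_append]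
  refine congrArg₂ _ (wm_inj ?_) (wm_inj ?_)
  · rw [← dec_wF]; exact u2F_eq ⟨k.val / 3, by omega⟩
  · rw [← dec_wF]; exact u3F_eq ⟨k.val % 3, by omega⟩

theorem par_onto : ∀ a b c d e : F3, ∃ i : Fin 243,
    n3 i 4 = a ∧ n3 i 3 = b ∧ n3 i 2 = c ∧ n3 i 1 = d ∧ n3 i 0 = e := by decide +kernel

theorem lpar_onto : ∀ a b c t : F3, ∃ k : Fin 81, n3 (k.val / 3) 2 = a ∧ n3 (k.val / 3) 1 = b ∧
    n3 (k.val / 3) 0 = c ∧ ((k.val % 3 : ℕ) : F3) = t := by decide +kernel

theorem pe_code (p : Par) : ∃ (c : Fin 243) (k : Fin 81), pe p = wW (uWord c) * wW (lWord k) := by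
  obtain ⟨⟨a, b, c, d, e⟩, ⟨x, y, z⟩, t⟩ := p
  obtain ⟨i, h1, h2, h3, h4, h5⟩ := par_onto a b c d e
  obtain ⟨k, h6, h7, h8, h9⟩ := lpar_onto x y z t
  exact ⟨i, k, by rw [wW_uWord, wW_lWord, h1, h2, h3, h4, h5, h6, h7, h8, h9, pe, mul_assoc]⟩

noncomputable def U1 : Subgroup W7 where
  carrier := Set.range u1
  mul_mem' := by
    rintro _ _ ⟨v, rfl⟩ ⟨w, rfl⟩
    refine ⟨(v.1 + w.1, v.2.1 + w.2.1, v.2.2.1 + w.2.2.1, v.2.2.2.1 + w.2.2.2.1,
      v.2.2.2.2 + w.2.2.2.2), wm_inj ?_⟩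
    exact (M1_add (R := F3) ..).symm
  one_mem' := ⟨(0, 0, 0, 0, 0), wm_inj (M1_zero (R := F3))⟩
  inv_mem' := by
    rintro _ ⟨v, rfl⟩
    refine ⟨-v, eq_inv_of_mul_eq_one_left (wm_inj ?_)⟩
    show M1 (-v.1) (-v.2.1) (-v.2.2.1) (-v.2.2.2.1) (-v.2.2.2.2) *
      M1 v.1 v.2.1 v.2.2.1 v.2.2.2.1 v.2.2.2.2 = _
    rw [M1_add]; simp only [neg_add_cancel]
    exact M1_zero

theorem uWord_mem (c : Fin 243) : wW (uWord c) ∈ U1 := ⟨_, (wW_uWord c).symm⟩

theorem conjU_check : (List.range 16).all (fun s => (List.range 5).all fun b =>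
    decide ((conjU.getD s []).getD b 0 < 243) &&
      eqM (cj (lGens.getD s 0) (gF (Fin.ofNat 36 b))) (u1F ((conjU.getD s []).getD b 0))) = true := by
  decide +kernel

theorem gW_basis_mem (b : Fin 36) (hb : b.val < 5) : gW b ∈ U1 := by
  have h : ∀ b : Fin 36, b.val < 5 → ∃ c : Fin 243, eqM (gF b) (u1F c) = true := by decide +kernel
  obtain ⟨c, hc⟩ := h b hb
  have : gW b = wW (uWord c) := wm_inj (by rw [wm_gW, ← dec_wF]; exact (eqM_iff _ _).1 hc)
  rw [this]; exact uWord_mem c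

theorem lGens_conj (s : Fin 36) (hs : s ∈ lGens) {u : W7} (hu : u ∈ U1) :
    gW s * u * (gW s)⁻¹ ∈ U1 := by
  obtain ⟨v, rfl⟩ := hu
  obtain ⟨a, b, c, d, e⟩ := v
  obtain ⟨i, h1, h2, h3, h4, h5⟩ := par_onto a b c d e
  rw [← h1, ← h2, ← h3, ← h4, ← h5, ← wW_uWord]
  have hw : ∀ x ∈ uWord i, x.val < 5 := by
    intro x hx
    simp only [uWord, List.mem_append, List.mem_replicate] at hx
    rcases hx with (((h | h) | h) | h) | h <;> rw [h.2] <;> decide
  generalize uWord i = w at hw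
  induction w with
  | nil => simp [wW, one_mem]
  | cons x w ih =>
    have hb : gW s * gW x * (gW s)⁻¹ ∈ U1 := by
      obtain ⟨n, hn, rfl⟩ := List.mem_iff_getElem.1 hs
      have h16 : n < 16 := hn
      have hx5 := hw x List.mem_cons_self
      have := List.all_eq_true.1 (List.all_eq_true.1 conjU_check n (List.mem_range.2 h16)) x.val
        (List.mem_range.2 hx5)
      rw [Bool.and_eq_true, decide_eq_true_eq] at this
      obtain ⟨hlt, he⟩ := this
      rw [List.getD_eq_getElem lGens 0 hn, show Fin.ofNat 36 x.val = x from Fin.ext (Nat.mod_eq_of_lt x.2)] at he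
      rw [show gW lGens[n] * gW x * (gW lGens[n])⁻¹ = wW (uWord (⟨_, hlt⟩ : Fin 243)) from wm_inj (by
        exact (dec_cj _ (x := gW x) (wm_gW x).symm).symm.trans
          (((eqM_iff _ _).1 he).trans (dec_wF _)))]
      exact uWord_mem _
    have hr := ih fun y hy => hw y (List.mem_cons_of_mem _ hy)
    have := mul_mem hb hr
    rw [wW]
    convert this using 1
    group

theorem lPath_conj : ∀ (p : List (Fin 36)), (∀ s ∈ p, s ∈ lGens) → ∀ {u : W7}, u ∈ U1 →
    wW p * u * (wW p)⁻¹ ∈ U1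
  | [], _, u, hu => by simpa [wW] using hu
  | s :: p, h, u, hu => by
    have := lGens_conj s (h s List.mem_cons_self)
      (lPath_conj p (fun t ht => h t (List.mem_cons_of_mem _ ht)) hu)
    rw [wW]
    convert this using 1
    group

/-- The middle block differs from the identity. -/
def midNe (m : FM) : Bool :=
  [1, 2, 3, 4, 5].any fun i => [1, 2, 3, 4, 5].any fun j =>
    (m.getD i (0, 0)).1.testBit j != (i == j) ||
      ((m.getD i (0, 0)).1.testBit j && (m.getD i (0, 0)).2.testBit j)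

theorem midNe_not_U1 {m : FM} (h : midNe m = true) {u : W7} (hu : u ∈ U1) : dec m ≠ wm u := by
  obtain ⟨v, rfl⟩ := hu
  intro he
  have hval : ∀ (b s : Bool) (i j : ℕ), val b s = (if i = j then 1 else 0) →
      (b != (i == j) || (b && s)) = false := by
    intro b s i j
    by_cases e : i = j <;> cases b <;> cases s <;> simp [e, val] <;> decide
  simp only [midNe, List.any_eq_true] at h
  obtain ⟨i, hi, j, hj, h⟩ := h
  have hi7 : i < 7 ∧ 1 ≤ i ∧ i ≤ 5 := by simp at hi; omega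
  have hj7 : j < 7 ∧ 1 ≤ j ∧ j ≤ 5 := by simp at hj; omega
  have h0 := congrFun (congrFun he ⟨i, hi7.1⟩) ⟨j, hj7.1⟩
  rw [hval _ _ i j (h0.trans ?_)] at h
  · exact Bool.false_ne_true h
  · have key : ∀ a b : Fin 7, 1 ≤ a.val → a.val ≤ 5 → 1 ≤ b.val → b.val ≤ 5 →
        wm (u1 v) a b = if a.val = b.val then 1 else 0 := by
      intro a b
      show 1 ≤ a.val → _ → _ → _ → M1 v.1 v.2.1 v.2.2.1 v.2.2.2.1 v.2.2.2.2 a b = _
      fin_cases a <;> fin_cases b <;> simp [M1]
    exact key _ _ hi7.2.1 hi7.2.2 hj7.2.1 hj7.2.2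

theorem stepA_check : (List.range 81).all (fun k =>
    midNe (mul (lF k) (mul (lF k) (lF k))) ||
      ((pathA.getD k []).all (fun s => lGens.contains s) && decide (repA.getD k 0 < 5) &&
        eqM (cjW (pathA.getD k []) (lF k)) (lF (repL.getD (repA.getD k 0) 0)))) = true := by
  decide +kernel

theorem lWord_lGens : ∀ k : Fin 81, ∀ s ∈ lWord k, s ∈ lGens := by decide +kernel

theorem stepA {x : W7} (hx : x ∈ PS) (h3 : x ^ 3 = 1) :
    ∃ (g : W7) (c : Fin 243) (r : Fin 5), g * x * g⁻¹ = wW (uWord c) * wW (lWord (repL.getD r 0)) := by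
  obtain ⟨p, rfl⟩ := hx
  obtain ⟨c, k, hp⟩ := pe_code p
  rw [hp] at h3 ⊢
  set u := wW (uWord c)
  set l := wW (lWord k) with hl
  have hu : u ∈ U1 := uWord_mem c
  have hk := List.all_eq_true.1 stepA_check k.val (List.mem_range.2 k.2)
  rw [Bool.or_eq_true] at hk
  rcases hk with hk | hk
  · exfalso
    have hc1 := lPath_conj (lWord k) (lWord_lGens k) hu
    have hc2 := lPath_conj (lWord k) (lWord_lGens k) hc1
    have hmem : l ^ 3 ∈ U1 := by
      have e : (u * (l * u * l⁻¹) * (l * (l * u * l⁻¹) * l⁻¹)) * l ^ 3 = (u * l) ^ 3 := by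
        simp only [pow_succ, pow_zero, one_mul]; group
      rw [h3] at e
      rw [eq_inv_of_mul_eq_one_right e]
      exact inv_mem (mul_mem (mul_mem hu hc1) hc2)
    refine midNe_not_U1 hk hmem ?_
    rw [dec_mul, dec_mul, lF, dec_wF, pow_succ', pow_two, wm_mul, wm_mul]
  · simp only [Bool.and_eq_true, decide_eq_true_eq, List.all_eq_true, List.contains_iff_mem] at hk
    obtain ⟨⟨hpath, hr⟩, he⟩ := hk
    set q := pathA.getD k.val []
    obtain ⟨v, hv⟩ := lPath_conj q hpath hu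
    obtain ⟨a, b, c', d, e⟩ := v
    obtain ⟨i, h1, h2, h3', h4, h5⟩ := par_onto a b c' d e
    refine ⟨wW q, i, ⟨_, hr⟩, ?_⟩
    have hl' : wW q * l * (wW q)⁻¹ = wW (lWord (repL.getD (repA.getD k.val 0) 0)) := wm_inj (by
      rw [← dec_cjW q (x := l) (dec_wF _), ← dec_wF]
      exact (eqM_iff _ _).1 he)
    rw [wW_uWord, h1, h2, h3', h4, h5, hv, ← hl']
    group

noncomputable def rootW (j : Fin 7) : W7 := wW (rootWords.getD j [])

def startF (i : ℕ) : FM :=
  let r := wF (rootWords.getD (i / 2) [])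
  bif i % 2 == 0 then r else mul r r

def marksAt (i : ℕ) : List (ℕ × FM) :=
  (match rootMarks.getD i none with
    | some a => [(a, startF i)]
    | none => []) ++ collect (trees.getD i .nil) (startF i)

def marks : List (ℕ × FM) := (List.range 14).flatMap marksAt

theorem marks_sound (p : ℕ × FM) (hp : p ∈ marks) :
    ∃ (j : Fin 7) (e : ℕ) (g : W7), (e = 1 ∨ e = 2) ∧ dec p.2 = wm (g * rootW j ^ e * g⁻¹) := by
  simp only [marks, List.mem_flatMap, List.mem_range] at hp
  obtain ⟨i, hi, hp⟩ := hp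
  have hs : dec (startF i) = wm (rootW ⟨i / 2, by omega⟩ ^ (i % 2 + 1)) := by
    unfold startF rootW
    rcases Nat.mod_two_eq_zero_or_one i with h | h
    · simp [h, dec_wF]
    · simp [h, pow_two, dec_mul, dec_wF, wm_mul]
  refine ⟨⟨i / 2, by omega⟩, i % 2 + 1, ?_⟩
  simp only [marksAt, List.mem_append] at hp
  rcases hp with hp | hp
  · refine ⟨1, by omega, ?_⟩
    cases hm : rootMarks.getD i none with
    | none => rw [hm] at hp; simp at hp
    | some a =>
      rw [hm] at hp; simp at hp; subst hp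
      simpa using hs
  · obtain ⟨g, hg⟩ := collect_sound _ hs p hp
    exact ⟨g, by omega, hg⟩

def target (n : ℕ) : FM := mul (u1F (n % 243)) (lF (repL.getD (n / 243) 0))

def markMask : List (ℕ × FM) → ℕ
  | [] => 0
  | p :: l => 2 ^ p.1 ||| markMask l

theorem markMask_mem : ∀ (l : List (ℕ × FM)) (n : ℕ), (markMask l).testBit n = true →
    ∃ p ∈ l, p.1 = n
  | [], n, h => by simp [markMask] at h
  | q :: l, n, h => by
    rw [markMask, Nat.testBit_or, Bool.or_eq_true] at h
    rcases h with h | h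
    · rw [Nat.testBit_two_pow, decide_eq_true_eq] at h
      exact ⟨q, List.mem_cons_self, h⟩
    · obtain ⟨p, hp, e⟩ := markMask_mem l n h
      exact ⟨p, List.mem_cons_of_mem _ hp, e⟩

theorem marks_check : marks.all (fun p => eqM p.2 (target p.1)) = true := by decide +kernel

theorem cover_check : (List.range 1215).all (fun n => (markMask marks).testBit n || eqM (target n) one ||
    !eqM (mul (target n) (mul (target n) (target n))) one) = true := by decide +kernel

/-- Completeness of the seven representatives. -/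
theorem cover (x : W7) (h3 : x ^ 3 = 1) (h1 : x ≠ 1) :
    ∃ (j : Fin 7) (e : ℕ) (g : W7), (e = 1 ∨ e = 2) ∧ g * x * g⁻¹ = rootW j ^ e := by
  obtain ⟨g0, hg0⟩ := exists_conj_PS x h3
  obtain ⟨g1, c, r, hy⟩ := stepA hg0 (by rw [conj_pow, h3, mul_one, mul_inv_cancel])
  set y := g1 * (g0 * x * g0⁻¹) * g1⁻¹ with hydef
  have hn : 243 * r.val + c.val < 1215 := by omega
  have hym : dec (target (243 * r.val + c.val)) = wm y := by
    rw [hy, target, dec_mul, u1F, lF, dec_wF, dec_wF, wm_mul,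
      show (243 * r.val + c.val) % 243 = c.val by omega,
      show (243 * r.val + c.val) / 243 = r.val by omega]
  have hk := List.all_eq_true.1 cover_check _ (List.mem_range.2 hn)
  simp only [Bool.or_eq_true, Bool.not_eq_true'] at hk
  rcases hk with (hk | hk) | hk
  · obtain ⟨p, hp, hpn⟩ := markMask_mem _ _ hk
    obtain ⟨j, e, g, he, hg⟩ := marks_sound p hp
    have hyg : y = g * rootW j ^ e * g⁻¹ := wm_inj (by
      rw [← hym, ← hg, ← hpn]
      exact ((eqM_iff _ _).1 (List.all_eq_true.1 marks_check p hp)).symm)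
    refine ⟨j, e, g⁻¹ * g1 * g0, he, ?_⟩
    have hx : rootW j ^ e = g⁻¹ * y * g := by rw [hyg]; group
    rw [hx, hydef]; group
  · exfalso
    have : y = 1 := wm_inj (by rw [← hym, (eqM_iff _ _).1 hk, dec_one, wm_one])
    apply h1
    simpa [hydef, conj_eq_one_iff] using this
  · exfalso
    apply dec_ne hk
    rw [dec_mul, dec_mul, hym, dec_one, ← wm_mul, ← wm_mul, ← pow_two, ← pow_succ', hydef, conj_pow,
      conj_pow, h3, mul_one, mul_inv_cancel, mul_one, mul_inv_cancel, wm_one]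

end H94.O7
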