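import Cfsg.Agent.H94.O7.Gen

/-! Conjugation certificates for the order-three elements of the Sylow subgroup. -/

set_option autoImplicit false
set_option maxRecDepth 20000

namespace H94.O7

def repL : List ℕ := [0, 3, 6, 1, 33]

def pathA : List (List (Fin 36)) := [
  [],
  [],
  [24, 33, 24],
  [],
  [],
  [],
  [],
  [],
  [],
  [7, 16],
  [6, 7],
  [24, 33, 25],
  [7, 16, 35],
  [],
  [],
  [33, 7, 16],
  [],
  [],
  [25, 34],
  [24, 25],
  [25, 6, 16],
  [25, 34, 17],
  [],
  [],
  [25, 34, 35],
  [],
  [],
  [26, 35],
  [6],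
  [6, 15],
  [25, 34, 8, 35],
  [],
  [],
  [],
  [],
  [],
  [6, 7, 16],
  [24, 7],
  [7, 34],
  [35],
  [],
  [],
  [8],
  [],
  [],
  [25, 34, 8],
  [25],
  [24, 25, 16],
  [17],
  [],
  [],
  [26],
  [],
  [],
  [26, 35],
  [24],
  [24, 33],
  [26, 17],
  [],
  [],
  [24, 25, 34, 17],
  [],
  [],
  [24, 7, 16],
  [7],
  [6, 7, 34],
  [26],
  [],
  [],
  [8],
  [],
  [],
  [24, 25, 34],
  [25, 6],
  [25, 16],
  [8],
  [],
  [],
  [26],
  [],
  []]

def repA : List ℕ := [0, 3, 3, 1, 0, 0, 2, 0, 0, 3, 3, 3, 3, 0, 0, 3, 0, 0, 3, 3, 3, 3, 0, 0, 3, 0, 0, 2, 3, 3, 3, 0, 0, 4, 0, 0, 3, 3, 3, 4, 0, 0, 2, 0, 0, 3, 3, 3, 4, 0, 0, 2, 0, 0, 1, 3, 3, 4, 0, 0, 3, 0, 0, 3, 3, 3, 1, 0, 0, 4, 0, 0, 3, 3, 3, 1, 0, 0, 4, 0, 0]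

def lGens : List (Fin 36) := [5, 6, 7, 8, 14, 15, 16, 17, 23, 24, 25, 26, 32, 33, 34, 35]

def conjU : List (List ℕ) := [
  [81, 27, 9, 165, 28],
  [81, 27, 90, 3, 172],
  [81, 189, 9, 3, 4],
  [81, 27, 36, 66, 1],
  [84, 29, 9, 3, 1],
  [92, 27, 10, 3, 1],
  [108, 27, 9, 5, 1],
  [81, 42, 12, 3, 1],
  [81, 27, 9, 84, 55],
  [81, 27, 171, 3, 181],
  [81, 108, 9, 3, 7],
  [81, 27, 63, 75, 1],
  [87, 28, 9, 3, 1],
  [101, 27, 11, 3, 1],
  [135, 27, 9, 4, 1],
  [81, 51, 15, 3, 1]]

def rootWords : List (List (Fin 36)) := [
  [8],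
  [7],
  [5, 7, 7],
  [4, 7],
  [2, 5, 7],
  [4, 8],
  [4, 4, 8]]

def tree0 : CT := (.node 24 none (.node 21 none (.node 30 (some 171) (.node 17 (some 174) (.node 8 (some 183) .nil (.node 26 (some 192) .nil .nil)) .nil) .nil) .nil) (.node 6 none (.node 4 none (.node 3 none (.node 12 (some 207) .nil .nil) (.node 21 none (.node 30 (some 117) .nil .nil) .nil)) (.node 3 none (.node 12 (some 180) (.node 17 (some 186) (.node 8 (some 177) (.node 8 (some 222) .nil .nil) (.node 5 (some 24) (.node 26 (some 60) .nil .nil) .nil)) .nil) .nil) (.node 21 none (.node 30 (some 90) (.node 17 (some 93) (.node 8 (some 102) .nil .nil) (.node 32 (some 96) (.node 23 (some 15) .nil .nil) .nil)) .nil) .nil))) (.node 20 (some 756) (.node 24 none (.node 21 none (.node 30 (some 198) .nil .nil) .nil) (.node 21 (some 738) (.node 30 (some 36) .nil .nil) .nil)) (.node 2 (some 783) (.node 24 none (.node 21 none (.node 30 (some 225) (.node 32 (some 230) (.node 23 (some 14) (.node 23 (some 122) .nil .nil) .nil) (.node 14 (some 232) (.node 5 (some 16) (.node 5 (some 124) .nil .nil) .nil)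 (.node 15 (some 218) .nil .nil))) .nil) .nil) (.node 6 none (.node 3 none (.node 12 (some 234) (.node 32 (some 239) (.node 24 (some 140) .nil (.node 23 (some 23) (.node 23 (some 131) .nil (.node 8 (some 32) (.node 25 (some 116) .nil .nil) (.node 24 (some 167) .nil .nil))) .nil)) (.node 14 (some 241) (.node 5 (some 25) (.node 5 (some 133) (.node 6 (some 196) .nil .nil) (.node 26 (some 61) (.node 25 (some 220) .nil .nil) (.node 6 (some 88) .nil .nil))) .nil) .nil)) .nil) (.node 21 none (.node 30 (some 144) (.node 17 (some 141) (.node 8 (some 105) .nil .nil) (.node 14 (some 148) (.node 5 (some 13) (.node 26 (some 31) .nil (.node 24 (some 85) .nil (.node 5 (some 202) .nil .nil))) .nil) (.node 32 (some 152) (.node 23 (some 17) (.node 23 (some 206) .nil (.node 8 (some 62) .nil (.node 6 (some 170) .nil .nil))) .nil) .nil))) .nil) .nil)) (.node 21 (some 765) (.node 30 (some 63) (.node 14 (some 64) (.node 24 (some 136) .nil (.node 5 (some 10) (.node 5 (some 37) .nil .nil) .nil)) (.node 32 (some 65) (.node 23 (some 11) (.node 8 (some 38) .nil .nil) .nil) .nil))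 .nil) (.node 3 (some 747) (.node 12 (some 72) (.node 7 (some 153) (.node 32 (some 161) (.node 23 (some 26) (.node 23 (some 215) .nil .nil) .nil) (.node 14 (some 157) (.node 5 (some 22) (.node 5 (some 211) .nil .nil) .nil) .nil)) (.node 15 (some 74) (.node 23 (some 20) (.node 24 (some 164) .nil (.node 23 (some 47) (.node 24 (some 191) .nil .nil) .nil)) .nil) (.node 14 (some 73) (.node 5 (some 19) (.node 6 (some 82) .nil (.node 5 (some 46) (.node 6 (some 109) .nil .nil) .nil)) .nil) .nil))) .nil) .nil)))) (.node 21 (some 792) (.node 30 (some 9) (.node 17 (some 12) (.node 26 (some 30) .nil (.node 8 (some 21) .nil .nil)) .nil) .nil) (.node 3 (some 774) (.node 12 (some 18) (.node 26 (some 45) .nil (.node 24 (some 99) (.node 26 (some 126) (.node 17 (some 111) .nil .nil) .nil) .nil)) (.node 20 (some 801) .nil .nil)) .nil))))))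

def tree1 : CT := .nil

def tree2 : CT := (.node 8 none (.node 4 none (.node 13 (some 51) (.node 7 (some 213) (.node 14 (some 212) (.node 5 (some 104) .nil .nil) (.node 34 (some 242) (.node 25 (some 155) .nil .nil) .nil)) (.node 16 (some 52) (.node 7 (some 208) (.node 7 (some 130) .nil .nil) .nil) (.node 15 (some 53) (.node 6 (some 44) .nil .nil) (.node 5 (some 132) (.node 14 (some 128) (.node 5 (some 101) .nil .nil) .nil) .nil)))) (.node 17 none (.node 3 none (.node 12 (some 189) .nil .nil) .nil) .nil)) (.node 2 none (.node 22 none (.node 31 (some 228) (.node 15 (some 221) .nil (.node 16 (some 203) (.node 7 (some 119) .nil .nil) (.node 14 (some 226) (.node 5 (some 172) .nil (.node 25 (some 151) .nil .nil)) (.node 32 (some 233) (.node 25 (some 146) .nil .nil) .nil)))) .nil) .nil) (.node 22 none (.node 31 (some 66) (.node 15 (some 67) (.node 5 (some 175) (.node 5 (some 121) .nil .nil) .nil) (.node 7 (some 147) .nil .nil)) .nil) .nil))) (.node 26 none (.node 22 none (.node 31 (some 75) (.node 14 (some 76) (.node 5 (some 184) .nil (.node 25 (some 235)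 .nil .nil)) (.node 15 (some 77) (.node 6 (some 68) .nil .nil) .nil)) .nil) .nil) (.node 22 (some 246) (.node 31 (some 3) .nil .nil) (.node 1 (some 324) (.node 10 (some 81) (.node 16 (some 108) (.node 7 (some 27) .nil .nil) (.node 15 (some 92) (.node 6 (some 2) .nil .nil) (.node 34 (some 135) (.node 25 (some 54) (.node 25 (some 216) .nil .nil) .nil) .nil))) (.node 8 none (.node 4 none .nil (.node 17 none (.node 22 none .nil .nil) (.node 22 none .nil .nil))) (.node 26 none (.node 22 none (.node 31 (some 156) .nil .nil) .nil) (.node 22 (some 327) (.node 31 (some 84) (.node 16 (some 113) (.node 7 (some 29) .nil .nil) (.node 34 (some 139) (.node 25 (some 55) (.node 25 (some 223) .nil .nil) .nil) (.node 15 (some 95) (.node 6 (some 5) .nil .nil) .nil))) .nil) (.node 4 (some 330) (.node 13 (some 87) (.node 16 (some 115) (.node 7 (some 28) (.node 7 (some 193) .nil (.node 6 (some 199) .nil .nil)) .nil) (.node 34 (some 143) (.node 25 (some 56) .nil .nil) (.node 15 (some 98) (.node 6 (some 8) (.node 6 (some 107) .nil (.node 23 (some 197) .nil .nil)) .nil) (.node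 26 (some 123) .nil .nil)))) .nil) .nil))))) (.node 4 (some 249) (.node 13 (some 6) (.node 16 (some 7) (.node 7 (some 1) (.node 7 (some 4) .nil .nil) .nil) (.node 26 (some 42) (.node 32 (some 43) (.node 23 (some 178) .nil .nil) .nil) .nil)) (.node 19 (some 411) (.node 28 (some 168) (.node 26 (some 204) .nil (.node 15 (some 187) (.node 7 (some 181) .nil (.node 23 (some 160) .nil .nil)) .nil)) .nil) .nil)) (.node 19 (some 405) (.node 28 (some 162) .nil (.node 26 none (.node 22 none (.node 31 (some 237) .nil .nil) .nil) (.node 22 (some 408) (.node 31 (some 165) .nil .nil) .nil))) .nil))))))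

def tree3 : CT := (.node 4 (some 489) (.node 19 (some 570) .nil .nil) (.node 19 (some 567) (.node 22 (some 573) .nil .nil) (.node 22 (some 492) .nil (.node 1 (some 648) (.node 4 (some 651) .nil (.node 22 (some 654) .nil .nil)) .nil))))

def tree4 : CT := (.node 26 none (.node 22 none (.node 31 (some 69) (.node 15 (some 70) (.node 7 (some 145) .nil .nil) .nil) .nil) .nil) (.node 8 none (.node 22 none (.node 31 (some 78) (.node 16 (some 79) (.node 7 (some 154) (.node 5 (some 100) .nil .nil) (.node 5 (some 106) .nil .nil)) (.node 23 (some 240) (.node 32 (some 236) (.node 23 (some 182) .nil .nil) .nil) (.node 15 (some 80) (.node 6 (some 71) .nil .nil) (.node 5 (some 159) (.node 34 (some 134) (.node 25 (some 209) .nil (.node 5 (some 188) .nil .nil)) (.node 32 (some 158) (.node 23 (some 185) .nil .nil) .nil)) .nil)))) .nil) (.node 4 none (.node 13 (some 39) (.node 23 (some 120) (.node 32 (some 118) (.node 23 (some 91) .nil .nil) .nil) (.node 34 (some 40) (.node 23 (some 94) .nil .nil) (.node 5 (some 201) (.node 14 (some 200) (.node 5 (some 173) .nil .nil)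 (.node 15 (some 194) (.node 6 (some 50) .nil .nil) .nil)) .nil))) .nil) .nil)) (.node 3 (some 1053) (.node 26 none (.node 22 none (.node 31 (some 150) .nil .nil) .nil) (.node 8 none (.node 22 none .nil (.node 4 none .nil .nil)) (.node 4 (some 1029) (.node 13 (some 138) (.node 26 (some 129) .nil (.node 16 (some 86) (.node 7 (some 83) .nil (.node 24 (some 176) .nil .nil)) (.node 15 (some 149) (.node 7 (some 227) .nil .nil) (.node 34 (some 112) (.node 25 (some 190) .nil (.node 23 (some 166) .nil .nil)) (.node 14 (some 142) (.node 5 (some 169) (.node 26 (some 205) .nil (.node 6 (some 97) .nil .nil)) .nil) .nil))))) .nil) (.node 22 (some 1167) (.node 31 (some 114) (.node 15 (some 125) (.node 5 (some 179) .nil .nil) .nil) .nil) .nil)))) (.node 4 (some 1191) (.node 13 (some 57) (.node 32 (some 59) (.node 7 (some 137) (.node 7 (some 224) .nil .nil) (.node 8 (some 41) .nil .nil)) (.node 5 (some 219) (.node 15 (some 238) (.node 6 (some 58) (.node 6 (some 229) .nil .nil) .nil) (.node 26 (some 210) .nil (.node 14 (some 217) (.node 5 (some 163) .nil .nil) .nil)))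 (.node 26 (some 48) (.node 34 (some 49) (.node 25 (some 127) .nil (.node 23 (some 103) .nil .nil)) .nil) .nil))) .nil) (.node 22 (some 1086) (.node 31 (some 33) (.node 34 (some 35) (.node 25 (some 110) .nil (.node 5 (some 89) .nil .nil)) .nil) .nil) (.node 1 (some 1134) (.node 22 (some 1005) (.node 31 (some 195) (.node 15 (some 214) (.node 6 (some 34) .nil .nil) .nil) .nil) (.node 26 none (.node 22 none (.node 31 (some 231) .nil .nil) .nil) (.node 8 none (.node 22 none .nil (.node 4 none .nil .nil)) (.node 4 (some 1110) .nil .nil)))) .nil))))))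

def tree5 : CT := .nil

def tree6 : CT := (.node 8 none (.node 17 none (.node 3 none (.node 7 none (.node 16 none (.node 7 none (.node 22 none .nil .nil) .nil) .nil) .nil) .nil) .nil) (.node 5 (some 271) (.node 14 (some 270) (.node 4 (some 276) (.node 5 (some 357) .nil .nil) .nil) (.node 32 (some 272) (.node 6 (some 371) .nil (.node 5 (some 245) (.node 6 (some 344) .nil .nil) (.node 4 (some 278) (.node 5 (some 332) .nil (.node 23 (some 467) .nil .nil)) (.node 19 (some 434) (.node 5 (some 407) (.node 6 (some 263) .nil .nil) (.node 23 (some 461) .nil .nil)) (.node 24 (some 362) (.node 5 (some 335) .nil .nil) .nil))))) (.node 22 (some 274) (.node 24 (some 454) (.node 14 (some 450) .nil (.node 5 (some 400) (.node 32 (some 396) .nil .nil) .nil)) (.node 14 (some 273) (.node 13 (some 1164) (.node 4 (some 1059) (.node 4 (some 1026) .nil (.node 8 none (.node 17 none .nil .nil) .nil)) .nil) (.node 5 (some 435) .nil (.node 14 (some 275) (.node 6 (some 374) (.node 23 (some 482) .nil .nil) (.node 5 (some 410) (.node 6 (some 266) .nil .nil) (.node 24 (some 365)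 (.node 23 (some 473) .nil (.node 5 (some 257) .nil .nil)) .nil))) .nil))) .nil)) (.node 24 (some 451) (.node 14 (some 456) (.node 5 (some 294) .nil .nil) (.node 32 (some 455) (.node 23 (some 320) .nil .nil) .nil)) (.node 4 (some 277) (.node 6 (some 448) (.node 5 (some 313) (.node 32 (some 312) (.node 8 none (.node 4 none .nil .nil) .nil) (.node 14 (some 314) .nil .nil)) .nil) (.node 5 (some 385) (.node 24 (some 322) (.node 14 (some 323) .nil (.node 32 (some 321) .nil .nil)) (.node 14 (some 380) (.node 6 (some 479) .nil (.node 24 (some 470) .nil .nil)) (.node 32 (some 381) .nil .nil))) (.node 24 (some 457) (.node 14 (some 453) .nil .nil) .nil))) (.node 19 (some 433) (.node 24 (some 370) (.node 32 (some 377) (.node 5 (some 431) .nil .nil) (.node 14 (some 372) (.node 8 none (.node 31 none (.node 22 none (.node 16 none (.node 7 (some 848) .nil .nil) (.node 7 none (.node 16 none (.node 7 (some 875) .nil .nil) .nil) .nil)) (.node 16 none (.node 7 (some 866) .nil .nil) .nil)) (.node 22 none (.node 13 none (.node 4 none (.node 34 none (.node 25 (some 884) .nil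 .nil) (.node 4 none (.node 34 none (.node 25 (some 839) .nil .nil) .nil) .nil)) .nil) .nil) .nil)) (.node 5 (some 291) (.node 8 none (.node 31 none (.node 22 none (.node 16 none (.node 7 (some 821) .nil .nil) .nil) .nil) .nil) .nil) .nil)) .nil)) (.node 32 (some 437) (.node 23 (some 302) .nil (.node 5 (some 329) (.node 6 (some 428) .nil .nil) .nil)) .nil)) (.node 7 (some 436) (.node 24 (some 373) (.node 14 (some 375) .nil .nil) (.node 14 (some 432) (.node 4 (some 438) .nil .nil) (.node 32 (some 440) (.node 5 (some 251) .nil .nil) .nil))) (.node 6 (some 442) (.node 14 (some 447) (.node 5 (some 285) (.node 13 none (.node 4 none (.node 16 none (.node 7 none (.node 6 (some 928) .nil .nil) .nil) (.node 4 none .nil .nil)) .nil) (.node 4 (some 282) (.node 26 none (.node 31 none (.node 22 none (.node 34 none (.node 25 (some 937) .nil .nil) .nil) (.node 25 none (.node 34 none (.node 25 (some 919) .nil .nil) .nil) .nil)) (.node 22 none (.node 31 (some 1023) (.node 22 (some 1128) .nil .nil) .nil) .nil)) .nil) .nil)) (.node 4 (some 444) (.node 14 (some 443) (.node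 5 (some 416) .nil .nil) .nil) .nil)) (.node 19 (some 361) (.node 32 (some 368) (.node 5 (some 422) .nil .nil) .nil) (.node 32 (some 446) (.node 23 (some 311) .nil (.node 5 (some 338) .nil .nil)) (.node 7 (some 364) (.node 14 (some 366) (.node 13 none (.node 4 none (.node 4 none (.node 16 none (.node 7 none (.node 6 (some 946) .nil .nil) .nil) (.node 7 none (.node 16 none (.node 7 none (.node 6 (some 892) .nil .nil) .nil) .nil) .nil)) (.node 16 none (.node 7 none (.node 6 (some 955) .nil .nil) .nil) .nil)) .nil) (.node 4 (some 363) (.node 26 none (.node 31 none (.node 22 none (.node 34 none (.node 25 (some 910) .nil .nil) .nil) .nil) (.node 22 none (.node 31 (some 1104) .nil .nil) .nil)) .nil) .nil)) .nil) (.node 22 (some 445) (.node 14 (some 441) (.node 14 (some 449) (.node 5 (some 260) .nil .nil) .nil) .nil) .nil))))) .nil)))))))) (.node 23 (some 298) (.node 32 (some 297) .nil (.node 14 (some 299) (.node 6 (some 398) .nil (.node 24 (some 389) .nil .nil)) (.node 22 (some 301) (.node 24 (some 481) (.node 32 (some 483) .nil .nil) (.node 23 (some 355)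 (.node 32 (some 353) (.node 6 (some 452) .nil (.node 5 (some 326) (.node 6 (some 425) .nil .nil) .nil)) (.node 24 (some 292) .nil .nil)) (.node 32 (some 300) .nil .nil))) (.node 24 (some 478) (.node 14 (some 485) (.node 5 (some 296) (.node 5 (some 350) .nil .nil) .nil) (.node 32 (some 480) (.node 13 none (.node 4 none (.node 26 (some 1095) (.node 22 (some 1200) (.node 22 (some 981) .nil .nil) .nil) .nil) .nil) (.node 23 (some 318) (.node 13 none (.node 4 none (.node 26 (some 1176) .nil (.node 4 none .nil .nil)) .nil) .nil) .nil)) .nil)) (.node 4 (some 304) (.node 24 (some 484) (.node 32 (some 477) .nil (.node 23 (some 376) (.node 14 (some 369) (.node 8 none .nil .nil) .nil) .nil)) (.node 14 (some 305) (.node 24 (some 395) .nil (.node 6 (some 404) (.node 5 (some 458) .nil .nil) .nil)) (.node 23 (some 439) (.node 6 (some 367) (.node 14 (some 360) (.node 26 none .nil .nil) .nil) .nil) (.node 32 (some 303) (.node 31 (some 1113) (.node 22 (some 1137) (.node 22 (some 999) .nil .nil) .nil) (.node 23 (some 465) (.node 31 (some 1032) (.node 22 (some 1056) .nil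 .nil) .nil) .nil)) .nil)))) .nil))))) (.node 7 (some 247) (.node 24 (some 427) (.node 23 (some 319) .nil .nil) (.node 23 (some 382) (.node 32 (some 378) .nil (.node 14 (some 386) .nil .nil)) (.node 19 (some 409) (.node 24 (some 346) .nil .nil) .nil))) (.node 24 (some 424) .nil (.node 1 (some 325) (.node 5 (some 352) (.node 14 (some 354) (.node 13 (some 1002) (.node 4 (some 1140) (.node 4 (some 1107) .nil (.node 8 none (.node 17 none (.node 8 (some 1161) .nil .nil) .nil) .nil)) .nil) .nil) (.node 32 (some 359) (.node 5 (some 413) (.node 6 (some 269) .nil .nil) .nil) (.node 6 (some 280) (.node 14 (some 279) (.node 26 none .nil .nil) (.node 32 (some 281) (.node 5 (some 254) .nil .nil) (.node 22 (some 283) (.node 32 (some 284) (.node 23 (some 392) .nil (.node 5 (some 419) .nil .nil)) .nil) .nil))) (.node 24 (some 289) (.node 14 (some 288) (.node 8 none (.node 4 none (.node 13 none (.node 4 none (.node 4 none .nil (.node 34 none (.node 25 (some 830) .nil .nil) .nil)) .nil) (.node 31 (some 1014) (.node 22 (some 1119) .nil .nil) .nil)) .nil) .nil) (.node 32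 (some 290) .nil .nil)) .nil)))) (.node 7 (some 328) (.node 23 (some 463) .nil (.node 24 (some 265) .nil .nil)) (.node 23 (some 379) (.node 14 (some 383) .nil (.node 32 (some 384) .nil (.node 24 (some 316) (.node 32 (some 315) .nil (.node 14 (some 317) .nil .nil)) .nil))) (.node 6 (some 253) (.node 23 (some 307) (.node 32 (some 306) .nil (.node 14 (some 308) .nil .nil)) (.node 7 (some 256) (.node 23 (some 391) (.node 32 (some 387) .nil .nil) .nil) .nil)) (.node 4 (some 331) (.node 6 (some 259) .nil (.node 24 (some 268) .nil .nil)) (.node 24 (some 262) .nil .nil)))))) (.node 4 (some 250) (.node 6 (some 421) (.node 23 (some 394) (.node 32 (some 390) .nil .nil) (.node 19 (some 340) .nil (.node 5 (some 286) (.node 32 (some 287) (.node 5 (some 341) .nil .nil) .nil) .nil))) (.node 5 (some 358) (.node 24 (some 295) .nil (.node 14 (some 351) .nil (.node 32 (some 356) (.node 5 (some 248) (.node 6 (some 347) .nil .nil) .nil) .nil))) (.node 24 (some 430) (.node 23 (some 403) (.node 32 (some 399) .nil .nil) .nil) (.node 23 (some 466) (.node 14 (some 464) .nil (.node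 32 (some 459) .nil .nil)) (.node 19 (some 412) (.node 24 (some 349) .nil .nil) .nil))))) (.node 19 (some 406) (.node 23 (some 460) (.node 24 (some 397) (.node 32 (some 402) .nil (.node 14 (some 401) (.node 5 (some 293) .nil .nil) .nil)) (.node 32 (some 462) .nil .nil)) (.node 24 (some 343) .nil .nil)) (.node 6 (some 415) (.node 19 (some 334) (.node 23 (some 388) (.node 32 (some 393) .nil .nil) .nil) (.node 23 (some 469) (.node 22 (some 472) (.node 32 (some 474) (.node 8 none (.node 4 none (.node 13 (some 1209) (.node 22 (some 990) .nil .nil) .nil) .nil) .nil) .nil) (.node 4 (some 475) (.node 32 (some 468) .nil .nil) (.node 32 (some 471) (.node 23 (some 309) .nil .nil) (.node 14 (some 476) .nil .nil)))) (.node 32 (some 418) (.node 23 (some 310) .nil (.node 19 (some 337) .nil .nil)) .nil))) .nil)))))))))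

def tree7 : CT := (.node 7 (some 488) (.node 23 (some 515) (.node 32 (some 513) .nil (.node 14 (some 514) .nil .nil)) (.node 5 (some 542) (.node 32 (some 541) (.node 5 (some 487) .nil .nil) (.node 14 (some 540) (.node 4 (some 543) .nil .nil) (.node 24 (some 632) (.node 14 (some 633) .nil .nil) .nil))) (.node 19 (some 569) (.node 24 (some 659) (.node 5 (some 713) (.node 14 (some 717) (.node 8 none (.node 31 none (.node 22 none (.node 34 none (.node 25 (some 857) .nil .nil) .nil) (.node 34 none (.node 25 (some 812) .nil .nil) .nil)) .nil) .nil) .nil) .nil) .nil) (.node 24 (some 578) (.node 23 (some 605) (.node 32 (some 609) .nil .nil) .nil) .nil)))) (.node 6 (some 590) (.node 32 (some 587) (.node 23 (some 614) (.node 32 (some 618) .nil .nil) (.node 19 (some 668) .nil (.node 5 (some 641) (.node 14 (some 642) (.node 4 (some 645) .nil .nil) .nil) .nil))) (.node 23 (some 698) (.node 32 (some 699) .nil (.node 22 (some 695) (.node 32 (some 696) .nil (.node 23 (some 722) (.node 32 (some 724) (.node 5 (some 589) .nil (.node 23 (some 535) .nil .nil)) .nil) .nil))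 (.node 14 (some 694) (.node 5 (some 721) (.node 5 (some 667) .nil (.node 19 (some 559) (.node 5 (some 505) .nil .nil) .nil)) .nil) (.node 4 (some 701) (.node 32 (some 693) .nil (.node 23 (some 647) (.node 14 (some 639) .nil (.node 32 (some 643) (.node 23 (some 697) .nil (.node 5 (some 508) .nil .nil)) .nil)) .nil)) .nil)))) (.node 19 (some 671) (.node 23 (some 536) (.node 32 (some 534) (.node 23 (some 615) (.node 8 none (.node 22 none (.node 31 (some 1152) .nil .nil) .nil) .nil) .nil) .nil) .nil) (.node 5 (some 563) (.node 32 (some 562) (.node 23 (some 616) .nil (.node 5 (some 670) .nil .nil)) (.node 19 (some 644) (.node 32 (some 640) (.node 23 (some 613) .nil (.node 5 (some 586) .nil .nil)) .nil) (.node 14 (some 561) (.node 4 (some 564) (.node 14 (some 565) (.node 5 (some 592) .nil .nil) .nil) (.node 5 (some 723) (.node 13 none (.node 4 none (.node 26 none (.node 34 none (.node 25 (some 964) .nil .nil) .nil) .nil) .nil) (.node 4 (some 726) .nil .nil)) .nil)) (.node 22 (some 560) (.node 14 (some 558) .nil .nil) .nil)))) .nil)))) (.node 23 (some 599)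 (.node 24 (some 689) (.node 32 (some 690) .nil (.node 14 (some 685) (.node 5 (some 712) (.node 5 (some 658) .nil .nil) .nil) .nil)) (.node 32 (some 594) (.node 13 (some 1080) (.node 4 (some 975) (.node 4 (some 1194) .nil .nil) .nil) .nil) (.node 22 (some 596) (.node 32 (some 600) (.node 23 (some 519) .nil .nil) (.node 23 (some 623) (.node 32 (some 628) (.node 5 (some 655) (.node 6 (some 583) .nil .nil) (.node 6 (some 556) .nil .nil)) .nil) (.node 24 (some 686) (.node 32 (some 687) .nil .nil) .nil))) (.node 4 (some 602) (.node 24 (some 692) (.node 32 (some 684) .nil (.node 23 (some 638) (.node 14 (some 630) .nil (.node 32 (some 634) (.node 23 (some 688) .nil .nil) .nil)) .nil)) (.node 14 (some 595) (.node 6 (some 523) (.node 5 (some 550) .nil .nil) (.node 24 (some 532) .nil .nil)) (.node 32 (some 597) (.node 23 (some 678) .nil .nil) (.node 23 (some 548) (.node 14 (some 546) .nil .nil) .nil)))) (.node 14 (some 601) (.node 24 (some 538) .nil (.node 6 (some 529) .nil .nil)) .nil))))) (.node 4 (some 494) (.node 6 (some 593) (.node 23 (some 539) (.node 32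 (some 537) .nil .nil) (.node 5 (some 728) .nil (.node 19 (some 674) (.node 23 (some 620) .nil .nil) .nil))) (.node 5 (some 629) (.node 24 (some 719) (.node 14 (some 714) .nil .nil) (.node 14 (some 621) (.node 4 (some 624) .nil .nil) (.node 32 (some 625) (.node 5 (some 490) (.node 6 (some 661) .nil .nil) .nil) .nil))) (.node 23 (some 683) (.node 32 (some 675) .nil (.node 14 (some 679) .nil (.node 24 (some 530) (.node 32 (some 528) .nil .nil) .nil))) (.node 19 (some 575) (.node 24 (some 665) (.node 23 (some 611) (.node 14 (some 604) .nil (.node 32 (some 606) (.node 26 none (.node 22 none (.node 31 (some 1143) .nil .nil) .nil) .nil) .nil)) .nil) (.node 23 (some 521) (.node 14 (some 520) (.node 6 (some 691) .nil (.node 24 (some 700) .nil .nil)) .nil) .nil)) (.node 24 (some 584) .nil .nil))))) (.node 19 (some 572) (.node 23 (some 680) (.node 32 (some 681) .nil (.node 24 (some 527) (.node 14 (some 526) (.node 5 (some 715) .nil .nil) (.node 32 (some 525) .nil .nil)) .nil)) (.node 24 (some 662) (.node 5 (some 635) (.node 14 (some 636) .nil (.node 32 (some 631)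 (.node 5 (some 577) .nil .nil) .nil)) .nil) .nil)) (.node 5 (some 707) (.node 19 (some 545) (.node 32 (some 544) (.node 23 (some 598) .nil (.node 5 (some 652) (.node 6 (some 580) .nil .nil) .nil)) .nil) (.node 14 (some 702) (.node 31 (some 1188) (.node 22 (some 978) (.node 22 (some 1083) .nil .nil) .nil) (.node 4 (some 705) .nil .nil)) (.node 32 (some 709) (.node 5 (some 493) (.node 6 (some 664) .nil .nil) (.node 24 (some 646) (.node 5 (some 673) .nil .nil) (.node 19 (some 547) (.node 5 (some 574) (.node 6 (some 502) .nil .nil) (.node 23 (some 682) .nil .nil)) (.node 4 (some 703) (.node 5 (some 649) .nil (.node 23 (some 676) .nil .nil)) (.node 6 (some 637) .nil .nil))))) (.node 22 (some 704) (.node 14 (some 708) (.node 14 (some 706) (.node 5 (some 571) (.node 6 (some 499) .nil .nil) .nil) .nil) (.node 24 (some 551) (.node 14 (some 549) .nil (.node 5 (some 524) (.node 32 (some 522) .nil .nil) .nil)) .nil)) (.node 24 (some 554) (.node 14 (some 552) .nil (.node 32 (some 553) (.node 23 (some 607) .nil .nil) .nil)) (.node 4 (some 710) (.node 6 (some 566)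 .nil (.node 24 (some 557) (.node 14 (some 555) .nil .nil) .nil)) .nil)))))) (.node 1 (some 653) (.node 23 (some 518) (.node 32 (some 516) .nil (.node 14 (some 517) .nil (.node 24 (some 608) (.node 14 (some 610) .nil (.node 32 (some 603) .nil .nil)) .nil))) (.node 7 (some 650) (.node 23 (some 677) .nil (.node 24 (some 497) .nil .nil)) (.node 5 (some 626) (.node 24 (some 716) (.node 14 (some 711) (.node 8 none (.node 4 none (.node 13 none .nil .nil) (.node 13 (some 1062) (.node 4 (some 1038) .nil .nil) .nil)) .nil) (.node 32 (some 718) .nil .nil)) (.node 32 (some 622) (.node 5 (some 568) (.node 6 (some 496) .nil .nil) .nil) (.node 6 (some 725) (.node 14 (some 720) (.node 26 none (.node 22 none (.node 31 none (.node 22 none (.node 7 none (.node 16 none (.node 7 (some 901) .nil .nil) .nil) .nil) .nil) .nil) .nil) (.node 13 none (.node 4 none (.node 26 (some 1047) (.node 4 (some 1185) (.node 4 (some 1071) .nil .nil) .nil) .nil) .nil) .nil)) (.node 32 (some 727) (.node 5 (some 511) .nil .nil) .nil)) (.node 14 (some 627) .nil .nil)))) (.node 24 (some 500)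 .nil (.node 4 (some 656) (.node 6 (some 512) .nil (.node 24 (some 503) .nil .nil)) (.node 6 (some 509) (.node 23 (some 617) (.node 14 (some 619) .nil (.node 32 (some 612) .nil .nil)) (.node 7 (some 506) (.node 23 (some 533) (.node 32 (some 531) .nil .nil) .nil) .nil)) .nil)))))) (.node 24 (some 581) .nil .nil))))))))

def tree8 : CT := (.node 4 none (.node 26 none (.node 31 (some 1050) (.node 22 (some 1074) .nil .nil) (.node 17 none (.node 8 none .nil (.node 34 none (.node 25 (some 929) .nil .nil) (.node 25 none (.node 34 none (.node 25 (some 956) .nil .nil) .nil) .nil))) .nil)) (.node 13 none (.node 13 none (.node 4 none (.node 17 none (.node 8 (some 1149) .nil .nil) (.node 26 (some 1179) .nil .nil)) .nil) (.node 4 none (.node 7 none (.node 16 none (.node 7 (some 811) (.node 21 (some 874) .nil .nil) .nil) (.node 4 none (.node 16 none (.node 7 (some 856) .nil .nil) .nil) .nil)) (.node 4 none .nil (.node 2 none (.node 4 none (.node 16 none (.node 7 (some 883) .nil .nil) (.node 4 none (.node 13 none (.node 4 none (.node 17 none (.node 8 (some 1068) .nil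 .nil) (.node 26 (some 1098) .nil .nil)) .nil) .nil) .nil)) (.node 16 none (.node 7 (some 838) (.node 21 (some 820) .nil .nil) .nil) .nil)) .nil))) .nil)) (.node 8 none (.node 2 none (.node 4 none (.node 13 (some 1182) (.node 4 (some 1077) (.node 8 none (.node 17 none (.node 8 (some 1089) (.node 22 (some 1203) .nil .nil) .nil) .nil) (.node 4 (some 1044) (.node 8 none (.node 17 none (.node 8 (some 984) .nil .nil) .nil) .nil) .nil)) .nil) .nil) .nil) (.node 4 none (.node 13 (some 1020) (.node 4 (some 1158) (.node 4 (some 1125) (.node 8 none (.node 17 none (.node 8 (some 1065) .nil .nil) .nil) .nil) (.node 8 none (.node 17 none (.node 8 (some 1170) (.node 22 (some 1041) .nil .nil) .nil) .nil) .nil)) .nil) .nil) .nil)) (.node 17 none (.node 8 none (.node 8 none (.node 7 none (.node 16 none (.node 7 (some 938) .nil .nil) .nil) (.node 16 none (.node 7 (some 965) .nil .nil) .nil)) (.node 31 (some 1011) (.node 22 (some 1116) .nil .nil) .nil)) .nil) .nil)))) (.node 8 none (.node 8 none (.node 17 none (.node 25 none (.node 34 none (.node 25 (some 893) .nil .nil)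 .nil) (.node 34 none (.node 25 (some 947) .nil .nil) (.node 8 none .nil .nil))) .nil) .nil) (.node 1 none (.node 17 none (.node 8 none (.node 8 none (.node 7 none (.node 16 none (.node 7 (some 920) .nil .nil) .nil) .nil) .nil) .nil) (.node 4 none (.node 26 none (.node 31 (some 1131) (.node 22 (some 1155) .nil .nil) (.node 17 none (.node 8 none .nil .nil) .nil)) (.node 13 none (.node 13 none (.node 4 none (.node 17 none (.node 8 (some 987) .nil .nil) (.node 26 (some 1017) .nil .nil)) .nil) .nil) (.node 8 none (.node 4 none (.node 13 (some 1101) (.node 4 (some 996) (.node 4 (some 1206) (.node 8 none (.node 17 none (.node 8 (some 1146) .nil .nil) .nil) .nil) (.node 8 none (.node 17 none (.node 8 (some 1008) (.node 22 (some 1122) .nil .nil) .nil) .nil) .nil)) .nil) .nil) .nil) (.node 17 none (.node 8 none (.node 8 none .nil (.node 31 (some 1092) (.node 22 (some 1197) .nil .nil) .nil)) .nil) .nil)))) (.node 22 none (.node 26 none .nil (.node 17 none (.node 8 none (.node 8 none (.node 7 none (.node 16 none (.node 7 (some 902) .nil .nil) .nil) .nil) .nil)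 .nil) (.node 31 none (.node 22 none (.node 25 none (.node 34 none (.node 25 (some 865) .nil .nil) .nil) (.node 22 none (.node 25 none (.node 34 none (.node 25 (some 829) .nil .nil) .nil) .nil) .nil)) (.node 25 none (.node 34 none (.node 25 (some 847) .nil .nil) .nil) .nil)) .nil))) (.node 8 none .nil (.node 26 none (.node 17 none (.node 8 none (.node 22 none (.node 26 none (.node 25 none (.node 34 none (.node 25 (some 911) .nil .nil) .nil) .nil) .nil) .nil) .nil) .nil) .nil))))) (.node 19 none (.node 22 none (.node 26 none (.node 22 none (.node 31 (some 1212) (.node 22 (some 993) .nil .nil) .nil) .nil) (.node 17 none (.node 8 none (.node 22 none (.node 31 (some 1173) (.node 22 (some 1035) .nil .nil) .nil) .nil) .nil) .nil)) .nil) (.node 22 none (.node 26 none .nil (.node 17 none (.node 8 none .nil .nil) .nil)) .nil)))))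

def tree9 : CT := .nil

def tree10 : CT := (.node 5 (some 757) (.node 21 (some 739) .nil .nil) (.node 7 none (.node 16 none (.node 4 none (.node 13 (some 255) (.node 4 (some 252) (.node 4 (some 258) .nil .nil) .nil) .nil) (.node 22 none (.node 31 (some 507) (.node 22 (some 504) (.node 22 (some 510) .nil .nil) .nil) .nil) .nil)) .nil) (.node 2 (some 784) (.node 7 none (.node 16 none (.node 4 none (.node 13 (some 336) (.node 4 (some 333) (.node 4 (some 339) .nil .nil) .nil) .nil) (.node 22 none (.node 31 (some 588) (.node 22 (some 585) (.node 22 (some 591) .nil .nil) .nil) .nil) .nil)) .nil) (.node 21 (some 766) .nil (.node 25 none (.node 34 none (.node 4 none (.node 13 (some 672) (.node 4 (some 666) (.node 4 (some 669) .nil .nil) .nil) .nil) (.node 22 none (.node 31 (some 420) (.node 22 (some 414) (.node 22 (some 417) .nil .nil) .nil) .nil) .nil)) .nil) (.node 3 (some 748) .nil .nil)))) (.node 21 (some 793) .nil (.node 3 (some 775) (.node 5 (some 802) .nil .nil) .nil)))))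

def tree11 : CT := (.node 2 none (.node 6 none (.node 15 none (.node 6 (some 837) (.node 21 (some 819) .nil .nil) .nil) .nil) (.node 3 none (.node 6 none (.node 15 none (.node 6 (some 882) .nil .nil) .nil) .nil) .nil)) (.node 6 none (.node 15 none (.node 6 (some 810) (.node 21 (some 873) .nil .nil) .nil) .nil) (.node 5 none (.node 6 none (.node 15 none (.node 6 (some 864) (.node 21 (some 846) .nil .nil) .nil) .nil) .nil) (.node 3 none (.node 5 none (.node 6 none (.node 15 none (.node 6 (some 828) .nil .nil) .nil) .nil) (.node 6 none (.node 15 none (.node 6 (some 855) .nil .nil) .nil) .nil)) .nil))))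

def tree12 : CT := (.node 20 (some 758) (.node 21 (some 740) .nil .nil) (.node 2 (some 785) (.node 7 none (.node 16 none (.node 4 none (.node 13 (some 582) (.node 4 (some 576) (.node 4 (some 579) .nil .nil) .nil) .nil) (.node 22 none (.node 31 (some 348) (.node 22 (some 342) (.node 22 (some 345) .nil .nil) .nil) .nil) .nil)) .nil) (.node 21 (some 767) .nil (.node 25 none (.node 34 none (.node 4 none (.node 13 (some 426) (.node 4 (some 423) (.node 4 (some 429) .nil .nil) .nil) .nil) (.node 22 none (.node 31 (some 660) (.node 22 (some 657) (.node 22 (some 663) .nil .nil) .nil) .nil) .nil)) .nil) (.node 3 (some 749) .nil .nil)))) (.node 7 none (.node 16 none (.node 4 none (.node 13 (some 501) (.node 4 (some 495) (.node 4 (some 498) .nil .nil) .nil) .nil) (.node 22 none (.node 31 (some 267) (.node 22 (some 261) (.node 22 (some 264) .nil .nil) .nil) .nil) .nil)) .nil) (.node 21 (some 794) .nil (.node 3 (some 776) (.node 20 (some 803) .nil .nil) .nil)))))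

def tree13 : CT := (.node 2 none (.node 6 none (.node 15 none (.node 6 (some 918) (.node 21 (some 900) .nil .nil) .nil) .nil) (.node 3 none (.node 6 none (.node 15 none (.node 6 (some 963) .nil .nil) .nil) .nil) .nil)) (.node 6 none (.node 15 none (.node 6 (some 891) (.node 2 (some 945) (.node 21 (some 927) .nil .nil) (.node 21 (some 954) .nil .nil)) .nil) .nil) (.node 3 none (.node 6 none (.node 15 none (.node 6 (some 936) (.node 2 (some 909) .nil .nil) .nil) .nil) .nil) .nil)))

def rootMarks : List (Option ℕ) := [some 729, none, some 243, some 486, some 972, none, some 244, some 491, none, none, some 730, none, some 731, none]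

def trees : List CT := [tree0, tree1, tree2, tree3, tree4, tree5, tree6, tree7, tree8, tree9, tree10, tree11, tree12, tree13]

end H94.O7
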