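import Cfsg.Agent.H94.O7.Mat

/-! Generator data for `Ω₇(3)`. -/

set_option autoImplicit false

namespace H94.O7

def gensF : List FM := [
  [(33, 32), (66, 0), (4, 0), (8, 0), (16, 0), (32, 0), (64, 0)],
  [(17, 16), (2, 0), (68, 0), (8, 0), (16, 0), (32, 0), (64, 0)],
  [(73, 64), (2, 0), (4, 0), (72, 0), (16, 0), (32, 0), (64, 0)],
  [(5, 4), (2, 0), (4, 0), (8, 0), (80, 0), (32, 0), (64, 0)],
  [(3, 2), (2, 0), (4, 0), (8, 0), (16, 0), (96, 0), (64, 0)],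
  [(1, 0), (18, 16), (36, 0), (8, 0), (16, 0), (32, 0), (64, 0)],
  [(1, 0), (42, 32), (4, 0), (40, 0), (16, 0), (32, 0), (64, 0)],
  [(1, 0), (6, 4), (4, 0), (8, 0), (48, 0), (32, 0), (64, 0)],
  [(1, 0), (2, 0), (28, 16), (24, 0), (16, 0), (32, 0), (64, 0)],
  [(1, 0), (2, 0), (4, 0), (8, 0), (16, 0), (33, 0), (66, 2)],
  [(1, 0), (2, 0), (4, 0), (8, 0), (17, 0), (32, 0), (68, 4)],
  [(1, 0), (2, 0), (4, 0), (9, 0), (16, 0), (32, 0), (73, 1)],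
  [(1, 0), (2, 0), (5, 0), (8, 0), (16, 0), (32, 0), (80, 16)],
  [(1, 0), (3, 0), (4, 0), (8, 0), (16, 0), (32, 0), (96, 32)],
  [(1, 0), (2, 0), (4, 0), (8, 0), (18, 0), (36, 4), (64, 0)],
  [(1, 0), (2, 0), (4, 0), (10, 0), (16, 0), (42, 2), (64, 0)],
  [(1, 0), (2, 0), (6, 0), (8, 0), (16, 0), (48, 16), (64, 0)],
  [(1, 0), (2, 0), (4, 0), (12, 0), (28, 4), (32, 0), (64, 0)],
  [(33, 0), (66, 64), (4, 0), (8, 0), (16, 0), (32, 0), (64, 0)],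
  [(17, 0), (2, 0), (68, 64), (8, 0), (16, 0), (32, 0), (64, 0)],
  [(73, 72), (2, 0), (4, 0), (72, 64), (16, 0), (32, 0), (64, 0)],
  [(5, 0), (2, 0), (4, 0), (8, 0), (80, 64), (32, 0), (64, 0)],
  [(3, 0), (2, 0), (4, 0), (8, 0), (16, 0), (96, 64), (64, 0)],
  [(1, 0), (18, 0), (36, 32), (8, 0), (16, 0), (32, 0), (64, 0)],
  [(1, 0), (42, 40), (4, 0), (40, 32), (16, 0), (32, 0), (64, 0)],
  [(1, 0), (6, 0), (4, 0), (8, 0), (48, 32), (32, 0), (64, 0)],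
  [(1, 0), (2, 0), (28, 24), (24, 16), (16, 0), (32, 0), (64, 0)],
  [(1, 0), (2, 0), (4, 0), (8, 0), (16, 0), (33, 1), (66, 0)],
  [(1, 0), (2, 0), (4, 0), (8, 0), (17, 1), (32, 0), (68, 0)],
  [(1, 0), (2, 0), (4, 0), (9, 1), (16, 0), (32, 0), (73, 9)],
  [(1, 0), (2, 0), (5, 1), (8, 0), (16, 0), (32, 0), (80, 0)],
  [(1, 0), (3, 1), (4, 0), (8, 0), (16, 0), (32, 0), (96, 0)],
  [(1, 0), (2, 0), (4, 0), (8, 0), (18, 2), (36, 0), (64, 0)],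
  [(1, 0), (2, 0), (4, 0), (10, 2), (16, 0), (42, 10), (64, 0)],
  [(1, 0), (2, 0), (6, 2), (8, 0), (16, 0), (48, 0), (64, 0)],
  [(1, 0), (2, 0), (4, 0), (12, 4), (28, 12), (32, 0), (64, 0)]]

def gensT : List FM := [
  [(1, 0), (2, 0), (4, 0), (8, 0), (16, 0), (33, 1), (66, 0)],
  [(1, 0), (2, 0), (4, 0), (8, 0), (17, 1), (32, 0), (68, 0)],
  [(1, 0), (2, 0), (4, 0), (9, 0), (16, 0), (32, 0), (73, 1)],
  [(1, 0), (2, 0), (5, 1), (8, 0), (16, 0), (32, 0), (80, 0)],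
  [(1, 0), (3, 1), (4, 0), (8, 0), (16, 0), (32, 0), (96, 0)],
  [(1, 0), (2, 0), (4, 0), (8, 0), (18, 2), (36, 0), (64, 0)],
  [(1, 0), (2, 0), (4, 0), (10, 0), (16, 0), (42, 2), (64, 0)],
  [(1, 0), (2, 0), (6, 2), (8, 0), (16, 0), (48, 0), (64, 0)],
  [(1, 0), (2, 0), (4, 0), (12, 0), (28, 4), (32, 0), (64, 0)],
  [(33, 0), (66, 64), (4, 0), (8, 0), (16, 0), (32, 0), (64, 0)],
  [(17, 0), (2, 0), (68, 64), (8, 0), (16, 0), (32, 0), (64, 0)],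
  [(73, 64), (2, 0), (4, 0), (72, 0), (16, 0), (32, 0), (64, 0)],
  [(5, 0), (2, 0), (4, 0), (8, 0), (80, 64), (32, 0), (64, 0)],
  [(3, 0), (2, 0), (4, 0), (8, 0), (16, 0), (96, 64), (64, 0)],
  [(1, 0), (18, 0), (36, 32), (8, 0), (16, 0), (32, 0), (64, 0)],
  [(1, 0), (42, 32), (4, 0), (40, 0), (16, 0), (32, 0), (64, 0)],
  [(1, 0), (6, 0), (4, 0), (8, 0), (48, 32), (32, 0), (64, 0)],
  [(1, 0), (2, 0), (28, 16), (24, 0), (16, 0), (32, 0), (64, 0)],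
  [(1, 0), (2, 0), (4, 0), (8, 0), (16, 0), (33, 0), (66, 2)],
  [(1, 0), (2, 0), (4, 0), (8, 0), (17, 0), (32, 0), (68, 4)],
  [(1, 0), (2, 0), (4, 0), (9, 1), (16, 0), (32, 0), (73, 9)],
  [(1, 0), (2, 0), (5, 0), (8, 0), (16, 0), (32, 0), (80, 16)],
  [(1, 0), (3, 0), (4, 0), (8, 0), (16, 0), (32, 0), (96, 32)],
  [(1, 0), (2, 0), (4, 0), (8, 0), (18, 0), (36, 4), (64, 0)],
  [(1, 0), (2, 0), (4, 0), (10, 2), (16, 0), (42, 10), (64, 0)],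
  [(1, 0), (2, 0), (6, 0), (8, 0), (16, 0), (48, 16), (64, 0)],
  [(1, 0), (2, 0), (4, 0), (12, 4), (28, 12), (32, 0), (64, 0)],
  [(33, 32), (66, 0), (4, 0), (8, 0), (16, 0), (32, 0), (64, 0)],
  [(17, 16), (2, 0), (68, 0), (8, 0), (16, 0), (32, 0), (64, 0)],
  [(73, 72), (2, 0), (4, 0), (72, 64), (16, 0), (32, 0), (64, 0)],
  [(5, 4), (2, 0), (4, 0), (8, 0), (80, 0), (32, 0), (64, 0)],
  [(3, 2), (2, 0), (4, 0), (8, 0), (16, 0), (96, 0), (64, 0)],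
  [(1, 0), (18, 16), (36, 0), (8, 0), (16, 0), (32, 0), (64, 0)],
  [(1, 0), (42, 40), (4, 0), (40, 32), (16, 0), (32, 0), (64, 0)],
  [(1, 0), (6, 4), (4, 0), (8, 0), (48, 0), (32, 0), (64, 0)],
  [(1, 0), (2, 0), (28, 24), (24, 16), (16, 0), (32, 0), (64, 0)]]

def JF : FM := [(64, 0), (32, 0), (16, 0), (8, 8), (4, 0), (2, 0), (1, 0)]

def invIdx (i : Fin 36) : Fin 36 :=
  if h : i.val < 18 then ⟨i.val + 18, by omega⟩ else ⟨i.val - 18, by omega⟩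

end H94.O7
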