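import Cfsg.Agent.H94.O7.PSub
import Cfsg.Agent.H94.O7.GenData

/-! Words in root elements and certified conjugation trees. -/

set_option autoImplicit false

namespace H94.O7

open Matrix

def gF (i : Fin 36) : FM := gensF.getD i one

theorem gF_transpose : ∀ i : Fin 36, dec (gensT.getD i one) = (dec (gF i))ᵀ := by decide +kernel

theorem gF_iso_check : ∀ i : Fin 36, eqM (mul (mul (gensT.getD i one) JF) (gF i)) JF = true := by
  decide +kernel

theorem dec_JF : dec JF = J := by decide +kernel

theorem gF_iso (i : Fin 36) : (dec (gF i))ᵀ * J * dec (gF i) = J := by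
  have h := (eqM_iff _ _).1 (gF_iso_check i)
  rwa [dec_mul, dec_mul, dec_JF, gF_transpose] at h

theorem gF_cube_check : ∀ i : Fin 36, eqM (mul (gF i) (mul (gF i) (gF i))) one = true := by
  decide +kernel

noncomputable def gW (i : Fin 36) : W7 :=
  ⟨mkI (dec (gF i)) (gF_iso i), mem_W7_of_cube (mat_inj (by
    rw [mat_pow, mat_mkI, pow_succ', pow_two, mat_one, ← dec_mul, ← dec_mul,
      (eqM_iff _ _).1 (gF_cube_check i), dec_one]))⟩

theorem wm_gW (i : Fin 36) : wm (gW i) = dec (gF i) := rfl

theorem gF_inv_check : ∀ i : Fin 36, eqM (mul (gF i) (gF (invIdx i))) one = true := by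
  decide +kernel

theorem gW_inv (i : Fin 36) : (gW i)⁻¹ = gW (invIdx i) := by
  refine inv_eq_of_mul_eq_one_right (wm_inj ?_)
  rw [wm_mul, wm_gW, wm_gW, ← dec_mul, (eqM_iff _ _).1 (gF_inv_check i), dec_one, wm_one]

/-- Word as a group element. -/
noncomputable def wW : List (Fin 36) → W7
  | [] => 1
  | i :: w => gW i * wW w

/-- Word as a matrix. -/
def wF : List (Fin 36) → FM
  | [] => one
  | i :: w => mul (gF i) (wF w)

theorem dec_wF : ∀ w, dec (wF w) = wm (wW w)
  | [] => by rw [wF, wW, dec_one, wm_one]
  | i :: w => by rw [wF, wW, dec_mul, wm_mul, wm_gW, dec_wF w]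

attribute [local irreducible] gW mul wm

/-- Conjugation by a generator. -/
def cj (i : Fin 36) (m : FM) : FM := mul (gF i) (mul m (gF (invIdx i)))

theorem dec_cj (i : Fin 36) {m : FM} {x : W7} (h : dec m = wm x) :
    dec (cj i m) = wm (gW i * x * (gW i)⁻¹) := by
  rw [cj, dec_mul, dec_mul, gW_inv, wm_mul, wm_mul, wm_gW, wm_gW, h, Matrix.mul_assoc]

/-- Conjugation by a word, the last letter acting first. -/
def cjW : List (Fin 36) → FM → FM
  | [], m => m
  | i :: w, m => cj i (cjW w m)

theorem dec_cjW : ∀ (w : List (Fin 36)) {m : FM} {x : W7}, dec m = wm x →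
    dec (cjW w m) = wm (wW w * x * (wW w)⁻¹)
  | [], m, x, h => by simpa [cjW, wW] using h
  | i :: w, m, x, h => by
    rw [cjW, dec_cj i (dec_cjW w h), wW]
    exact congrArg wm (by group)

/-- A conjugation tree: `node g mark child sibling`. -/
inductive CT
  | nil
  | node (g : Fin 36) (mark : Option ℕ) (child sib : CT)

/-- The marked matrices of a tree hung below `m`. -/
def collect : CT → FM → List (ℕ × FM)
  | .nil, _ => []
  | .node g k c s, m =>
    let m' := cj g m
    (match k with
     | some a => [(a, m')]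
     | none => []) ++ (collect c m' ++ collect s m)

theorem collect_sound : ∀ (t : CT) {m : FM} {x : W7}, dec m = wm x → ∀ p ∈ collect t m,
    ∃ g : W7, dec p.2 = wm (g * x * g⁻¹)
  | .nil, m, x, _, p, hp => by simp [collect] at hp
  | .node g k c s, m, x, h, p, hp => by
    simp only [collect, List.mem_append] at hp
    rcases hp with hp | hp | hp
    · refine ⟨gW g, ?_⟩
      cases k with
      | none => simp at hp
      | some a =>
        simp at hp
        subst hp
        exact dec_cj g h
    · obtain ⟨w, hw⟩ := collect_sound c (dec_cj g h) p hp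
      exact ⟨w * gW g, hw.trans (congrArg wm (by group))⟩
    · exact collect_sound s h p hp

end H94.O7
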