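import Cfsg.Agent.H94.O7.Cent

/-! The seven representatives are pairwise non-conjugate. -/

set_option autoImplicit false

namespace H94.O7

open Matrix

theorem rootW_cube (j : Fin 7) : rootW j ^ 3 = 1 := by
  have h : ∀ j : Fin 7, eqM (mul (wF (rootWords.getD j [])) (mul (wF (rootWords.getD j []))
      (wF (rootWords.getD j [])))) one = true := by decide +kernel
  refine wm_inj ?_
  rw [wm_one, pow_succ', pow_two, wm_mul, wm_mul, rootW, ← dec_wF, ← dec_mul, ← dec_mul,
    (eqM_iff _ _).1 (h j), dec_one]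

theorem rootW_ne_one (j : Fin 7) : rootW j ≠ 1 := by
  have h : ∀ j : Fin 7, eqM (wF (rootWords.getD j [])) one = false := by decide +kernel
  intro e
  refine dec_ne (h j) ?_
  rw [dec_wF, dec_one, show wW _ = rootW j from rfl, e, wm_one]

theorem vecs_nodup : ((allRows 7).map vec).Nodup := by
  have hsurj : ((allRows 7).map vec).toFinset = (Finset.univ : Finset V7) := by
    refine Finset.eq_univ_iff_forall.2 fun v => ?_
    obtain ⟨r, hr, e⟩ := exists_vec v
    exact List.mem_toFinset.2 (List.mem_map.2 ⟨r, hr, e⟩)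
  have h := congrArg Finset.card hsurj
  rw [List.card_toFinset, Finset.card_univ] at h
  have hl : ((allRows 7).map vec).dedup.length = ((allRows 7).map vec).length := by
    rw [h, List.length_map, allRows_length]; simp
  exact List.dedup_eq_self.1 ((List.dedup_sublist _).eq_of_length hl)

/-- Number of fixed rows with a given value of the form. -/
def countR (m : FM) (k : F3) : ℕ := (allRows 7).countP fun r => eqR (rmul m r) r && eqb (qR r) k

/-- The same number, for a group element. -/
noncomputable def fixN (x : W7) (k : F3) : ℕ := Nat.card {v : V7 // v ᵥ* wm x = v ∧ q7 v = k}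

theorem fixN_eq (m : FM) (x : W7) (h : dec m = wm x) (k : F3) : fixN x k = countR m k := by
  classical
  have hmem : ∀ v : V7, v ∈ ((allRows 7).map vec) := fun v => by
    obtain ⟨r, hr, e⟩ := exists_vec v
    exact List.mem_map.2 ⟨r, hr, e⟩
  rw [fixN, Nat.card_eq_fintype_card, Fintype.card_subtype,
    show (Finset.univ : Finset V7) = ⟨(↑((allRows 7).map vec) : Multiset V7), vecs_nodup⟩ from
      (Finset.eq_univ_iff_forall.2 hmem).symm]
  show Multiset.card (Multiset.filter _ (Multiset.ofList ((allRows 7).map vec))) = _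
  rw [Multiset.filter_coe, Multiset.coe_card, ← List.countP_eq_length_filter, List.countP_map, countR]
  refine List.countP_congr fun r _ => ?_
  simp [eqR_iff, eqb, vec_rmul, h, qR_eq]

theorem fixN_conj (g x : W7) (k : F3) : fixN (g * x * g⁻¹) k = fixN x k := by
  refine Nat.card_congr ?_
  refine
    { toFun := fun v => ⟨v.1 ᵥ* wm g, ?_, ?_⟩
      invFun := fun v => ⟨v.1 ᵥ* wm g⁻¹, ?_, ?_⟩
      left_inv := fun v => Subtype.ext ?_
      right_inv := fun v => Subtype.ext ?_ }
  · have := congrArg (fun w => w ᵥ* wm g) v.2.1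
    simpa [vecMul_vecMul, ← wm_mul, mul_assoc] using this
  · exact (row_iso g.1 v.1).trans v.2.2
  · rw [vecMul_vecMul, ← wm_mul, show g⁻¹ * (g * x * g⁻¹) = x * g⁻¹ by group, wm_mul, ← vecMul_vecMul,
      v.2.1]
  · exact (row_iso g⁻¹.1 v.1).trans v.2.2
  · simp [vecMul_vecMul, ← wm_mul, wm_one]
  · simp [vecMul_vecMul, ← wm_mul, wm_one]

theorem fixN_pow (x : W7) (h : x ^ 3 = 1) {e : ℕ} (he : e = 1 ∨ e = 2) (k : F3) :
    fixN (x ^ e) k = fixN x k := by
  rcases he with rfl | rfl
  · rw [pow_one]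
  refine Nat.card_congr (Equiv.subtypeEquivRight fun v => ⟨fun hv => ⟨?_, hv.2⟩, fun hv => ⟨?_, hv.2⟩⟩)
  · calc v ᵥ* wm x = v ᵥ* wm (x ^ 2) ᵥ* wm (x ^ 2) := by
          rw [vecMul_vecMul, ← wm_mul, ← pow_add, show 2 + 2 = 3 + 1 from rfl, pow_add, h, one_mul,
            pow_one]
      _ = v := by rw [hv.1, hv.1]
  · rw [pow_two, wm_mul, ← vecMul_vecMul, hv.1, hv.1]

theorem count_table : ∀ i j : Fin 7, i.val < j.val →
    (∀ k : F3, countR (wF (rootWords.getD i [])) k = countR (wF (rootWords.getD j [])) k) →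
    i.val = 5 ∧ j.val = 6 := by
  decide +kernel

def hF : FM := [(1, 1), (2, 0), (4, 0), (8, 0), (16, 0), (32, 0), (64, 64)]

theorem hF_iso : (dec hF)ᵀ * J * dec hF = J := by decide +kernel

noncomputable def hI : I7 := mkI (dec hF) hF_iso

theorem hI_det : (mat hI).det = 1 := by
  rw [hI, mat_mkI, show dec hF = Matrix.diagonal ![2, 1, 1, 1, 1, 1, 2] from by decide +kernel,
    det_diagonal, Fin.prod_univ_seven]
  decide

theorem hI_notMem : hI ∉ W7 := by
  intro h
  let u : V7 := ![1, 0, 0, 0, 0, 0, 1]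
  let v : V7 := ![1, 0, 0, 0, 0, 0, 2]
  have hu : q7 u = 1 := by rw [q7_apply]; simp [u]
  have hv : q7 v = 2 := by rw [q7_apply]; simp [v]
  have hu0 : q7 u ≠ 0 := by rw [hu]; decide
  have hv0 : q7 v ≠ 0 := by rw [hv]; decide
  have e : H43.toOrth q7 hI = H43.refl q7 u * H43.refl q7 v := by
    rw [H43.toOrth_eq_iff]
    intro x
    rw [H43.orth_mul_apply, H43.refl_apply, H43.refl_apply]
    simp only [polB_q7, hu, hv, inv_one, one_mul]
    have h2 : (2 : F3)⁻¹ = 2 := inv_eq_of_mul_eq_one_right (by decide)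
    rw [h2]
    show dec hF *ᵥ x = _
    rw [show dec hF = Matrix.diagonal ![2, 1, 1, 1, 1, 1, 2] from by decide +kernel]
    funext i
    rw [mulVec_diagonal]
    fin_cases i <;> simp [u, v, vecHead, vecTail] <;> (generalize x 0 = a; generalize x 6 = b; revert a b; decide)
  rw [H43.mem_Omega_iff, e] at h
  have hgen : H43.ReflGenerates F3 V7 := H43.reflGenerates_of_two_ne_zero (by decide)
  rw [H43.commutator_eq_invKer q7_nondeg hgen (by simp), MonoidHom.mem_ker, map_mul,
    H43.invHom_refl q7_nondeg hgen hu0, H43.invHom_refl q7_nondeg hgen hv0] at h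
  have h2 := congrArg Prod.snd h
  simp only [Prod.snd_mul, Prod.snd_one, hu, hv, H43.sqc_one, one_mul] at h2
  exact absurd ((H43.sqc_eq_one_iff (show (2 : F3) ≠ 0 by decide)).1 h2)
    (show ¬ IsSquare (2 : F3) by rintro ⟨r, hr⟩; revert r; decide)

def swapWord : List (Fin 36) := [7, 16, 7, 7, 16, 7]

theorem swap5 : wW swapWord * rootW 5 * (wW swapWord)⁻¹ = rootW 5 ^ 2 ∧
    wW swapWord * rootW 6 * (wW swapWord)⁻¹ = rootW 6 ^ 2 := by
  have h : ∀ j : Fin 7, 5 ≤ j.val → eqM (cjW swapWord (wF (rootWords.getD j [])))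
      (mul (wF (rootWords.getD j [])) (wF (rootWords.getD j []))) = true := by decide +kernel
  have key : ∀ j : Fin 7, 5 ≤ j.val → wW swapWord * rootW j * (wW swapWord)⁻¹ = rootW j ^ 2 := by
    intro j hj
    exact wm_inj ((dec_cjW _ (dec_wF _)).symm.trans (((eqM_iff _ _).1 (h j hj)).trans
      (by rw [dec_mul, dec_wF, pow_two, wm_mul]; rfl)))
  exact ⟨key 5 (by decide), key 6 (by decide)⟩

theorem five_six (g : W7) : g * rootW 5 * g⁻¹ ≠ rootW 6 := by
  intro h
  have hh : eqM (mul hF (mul aF hF)) (wF (rootWords.getD 6 [])) = true ∧ eqM (mul hF hF) one = true := by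
    decide +kernel
  have h6 : wm (rootW 6) = dec hF * dec aF * dec hF := by
    rw [rootW, ← dec_wF]
    exact ((eqM_iff _ _).1 hh.1).symm.trans (by rw [dec_mul, dec_mul, Matrix.mul_assoc])
  have hhh : dec hF * dec hF = 1 := by rw [← dec_mul, (eqM_iff _ _).1 hh.2, dec_one]
  have ha : wm (rootW 5) = dec aF := (dec_wF _).symm
  have hg : wm g * dec aF = wm (rootW 6) * wm g := by
    rw [← ha, ← wm_mul, ← wm_mul, ← h, inv_mul_cancel_right]
  have hcomm : mat (hI * g.1) * dec aF = dec aF * mat (hI * g.1) := by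
    show dec hF * wm g * dec aF = dec aF * (dec hF * wm g)
    rw [Matrix.mul_assoc, hg, h6]
    calc dec hF * (dec hF * dec aF * dec hF * wm g)
        = (dec hF * dec hF) * (dec aF * (dec hF * wm g)) := by simp only [Matrix.mul_assoc]
      _ = _ := by rw [hhh, Matrix.one_mul]
  have hdet : (mat g.1).det = 1 := by
    have := ((H43.mem_commutator_iff_odd q7_nondeg (by decide) (by simp)
      (H43.toOrth q7 g.1)).1 ((H43.mem_Omega_iff g.1).1 g.2)).1
    have h := congrArg Units.val this
    rw [H43.coe_detHom, H43.toOrth_det] at h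
    exact h
  have hk := cent_mem (hI * g.1) (by rw [mat_mul, det_mul, hI_det, hdet, one_mul]) hcomm
  exact hI_notMem ((Subgroup.mul_mem_cancel_right _ g.2).1 hk)

theorem five_six' (g : W7) {e : ℕ} (he : e = 1 ∨ e = 2) : g * rootW 5 * g⁻¹ ≠ rootW 6 ^ e := by
  rcases he with rfl | rfl
  · rw [pow_one]; exact five_six g
  · intro h
    apply five_six ((wW swapWord)⁻¹ * g)
    rw [← swap5.2] at h
    calc (wW swapWord)⁻¹ * g * rootW 5 * ((wW swapWord)⁻¹ * g)⁻¹
        = (wW swapWord)⁻¹ * (g * rootW 5 * g⁻¹) * wW swapWord := by group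
      _ = rootW 6 := by rw [h]; group

/-- Distinct representatives generate non-conjugate subgroups. -/
theorem rootW_sep (i j : Fin 7) (g : W7) {e : ℕ} (he : e = 1 ∨ e = 2)
    (h : g * rootW i * g⁻¹ = rootW j ^ e) : i = j := by
  have hcount : ∀ k, countR (wF (rootWords.getD i [])) k = countR (wF (rootWords.getD j [])) k := by
    intro k
    rw [← fixN_eq _ (rootW i) (dec_wF _) k, ← fixN_eq _ (rootW j) (dec_wF _) k,
      ← fixN_conj g (rootW i) k, h, fixN_pow _ (rootW_cube j) he]
  rcases lt_trichotomy i.val j.val with hlt | heq | hgt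
  · obtain ⟨hi, hj⟩ := count_table i j hlt hcount
    rw [show i = 5 from Fin.ext hi, show j = 6 from Fin.ext hj] at h
    exact absurd h (five_six' g he)
  · exact Fin.ext heq
  · obtain ⟨hj, hi⟩ := count_table j i hgt fun k => (hcount k).symm
    rw [show i = 6 from Fin.ext hi, show j = 5 from Fin.ext hj] at h
    exfalso
    have hj2 : g⁻¹ * rootW 5 ^ e * g = rootW 6 := by rw [← h]; group
    rcases he with rfl | rfl
    · apply five_six g⁻¹
      rw [inv_inv]; rwa [pow_one] at hj2
    · apply five_six (g⁻¹ * wW swapWord)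
      rw [← swap5.1] at hj2
      rw [← hj2]; group

end H94.O7
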