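import Cfsg.Agent.H94.O7.Setup

/-! A Sylow `3`-subgroup of `Ω₇(3)`. -/

set_option autoImplicit false
set_option maxHeartbeats 2000000

namespace H94.O7

open Matrix

variable {R : Type*} [CommRing R]

def M1 (a b c d e : R) : Matrix (Fin 7) (Fin 7) R :=
  !![1, -e, -d, -(2 * c), -b, -a, -(c * c + b * d + a * e);
     0, 1, 0, 0, 0, 0, a; 0, 0, 1, 0, 0, 0, b; 0, 0, 0, 1, 0, 0, c; 0, 0, 0, 0, 1, 0, d;
     0, 0, 0, 0, 0, 1, e; 0, 0, 0, 0, 0, 0, 1]

def M2 (a b c : R) : Matrix (Fin 7) (Fin 7) R :=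
  !![1, 0, 0, 0, 0, 0, 0; 0, 1, -c, -(2 * b), -a, -(b * b + a * c), 0; 0, 0, 1, 0, 0, a, 0;
     0, 0, 0, 1, 0, b, 0; 0, 0, 0, 0, 1, c, 0; 0, 0, 0, 0, 0, 1, 0; 0, 0, 0, 0, 0, 0, 1]

def M3 (c : R) : Matrix (Fin 7) (Fin 7) R :=
  !![1, 0, 0, 0, 0, 0, 0; 0, 1, 0, 0, 0, 0, 0; 0, 0, 1, -(2 * c), -(c * c), 0, 0;
     0, 0, 0, 1, c, 0, 0; 0, 0, 0, 0, 1, 0, 0; 0, 0, 0, 0, 0, 1, 0; 0, 0, 0, 0, 0, 0, 1]

theorem M1_add (a b c d e a' b' c' d' e' : R) :
    M1 a b c d e * M1 a' b' c' d' e' = M1 (a + a') (b + b') (c + c') (d + d') (e + e') := by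
  ext i j
  fin_cases i <;> fin_cases j <;> simp [M1, Matrix.mul_apply, Fin.sum_univ_seven] <;> ring

theorem M2_add (a b c a' b' c' : R) : M2 a b c * M2 a' b' c' = M2 (a + a') (b + b') (c + c') := by
  ext i j
  fin_cases i <;> fin_cases j <;> simp [M2, Matrix.mul_apply, Fin.sum_univ_seven] <;> ring

theorem M3_add (c c' : R) : M3 c * M3 c' = M3 (c + c') := by
  ext i j
  fin_cases i <;> fin_cases j <;> simp [M3, Matrix.mul_apply, Fin.sum_univ_seven] <;> ring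

theorem M2_M1 (x y z a b c d e : R) : M2 x y z * M1 a b c d e =
    M1 (a - z * b - 2 * y * c - x * d - (y * y + x * z) * e) (b + x * e) (c + y * e) (d + z * e) e *
      M2 x y z := by
  ext i j
  fin_cases i <;> fin_cases j <;> simp [M1, M2, Matrix.mul_apply, Fin.sum_univ_seven] <;> ring

theorem M3_M1 (t a b c d e : R) : M3 t * M1 a b c d e =
    M1 a (b - 2 * t * c - t * t * d) (c + t * d) d e * M3 t := by
  ext i j
  fin_cases i <;> fin_cases j <;> simp [M1, M3, Matrix.mul_apply, Fin.sum_univ_seven] <;> ring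

theorem M3_M2 (t a b c : R) : M3 t * M2 a b c =
    M2 (a - 2 * t * b - t * t * c) (b + t * c) c * M3 t := by
  ext i j
  fin_cases i <;> fin_cases j <;> simp [M2, M3, Matrix.mul_apply, Fin.sum_univ_seven] <;> ring

theorem M1_zero : M1 (0 : R) 0 0 0 0 = 1 := by
  ext i j
  fin_cases i <;> fin_cases j <;> simp [M1]

theorem M2_zero : M2 (0 : R) 0 0 = 1 := by
  ext i j
  fin_cases i <;> fin_cases j <;> simp [M2]

theorem M3_zero : M3 (0 : R) = 1 := by
  ext i j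
  fin_cases i <;> fin_cases j <;> simp [M3]

theorem M1_iso (a b c d e : F3) : (M1 a b c d e)ᵀ * J * M1 a b c d e = J := by
  ext i j
  fin_cases i <;> fin_cases j <;> simp [M1, J, Matrix.mul_apply, Fin.sum_univ_seven] <;> ring

theorem M2_iso (a b c : F3) : (M2 a b c)ᵀ * J * M2 a b c = J := by
  ext i j
  fin_cases i <;> fin_cases j <;> simp [M2, J, Matrix.mul_apply, Fin.sum_univ_seven] <;> ring

theorem M3_iso (c : F3) : (M3 c)ᵀ * J * M3 c = J := by
  ext i j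
  fin_cases i <;> fin_cases j <;> simp [M3, J, Matrix.mul_apply, Fin.sum_univ_seven] <;> ring

theorem three_eq (x : F3) : x + (x + x) = 0 := by revert x; decide

noncomputable def u1 (v : F3 × F3 × F3 × F3 × F3) : W7 :=
  ⟨mkI (M1 v.1 v.2.1 v.2.2.1 v.2.2.2.1 v.2.2.2.2) (M1_iso ..), mem_W7_of_cube (mat_inj (by
    rw [mat_pow, mat_mkI, pow_succ', pow_two, M1_add, M1_add, mat_one]
    simp only [three_eq]
    exact M1_zero))⟩

noncomputable def u2 (w : F3 × F3 × F3) : W7 :=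
  ⟨mkI (M2 w.1 w.2.1 w.2.2) (M2_iso ..), mem_W7_of_cube (mat_inj (by
    rw [mat_pow, mat_mkI, pow_succ', pow_two, M2_add, M2_add, mat_one]
    simp only [three_eq]
    exact M2_zero))⟩

noncomputable def u3 (c : F3) : W7 :=
  ⟨mkI (M3 c) (M3_iso _), mem_W7_of_cube (mat_inj (by
    rw [mat_pow, mat_mkI, pow_succ', pow_two, M3_add, M3_add, mat_one]
    simp only [three_eq]
    exact M3_zero))⟩

/-- Matrix of an element of `Ω`. -/
noncomputable def wm (g : W7) : M7 := mat g.1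

theorem wm_inj {g h : W7} (e : wm g = wm h) : g = h := Subtype.ext (mat_inj e)

theorem wm_mul (g h : W7) : wm (g * h) = wm g * wm h := rfl

theorem wm_one : wm 1 = 1 := rfl

abbrev Par := (F3 × F3 × F3 × F3 × F3) × (F3 × F3 × F3) × F3

noncomputable def pe (p : Par) : W7 := u1 p.1 * u2 p.2.1 * u3 p.2.2

theorem wm_pe (p : Par) : wm (pe p) = M1 p.1.1 p.1.2.1 p.1.2.2.1 p.1.2.2.2.1 p.1.2.2.2.2 *
    M2 p.2.1.1 p.2.1.2.1 p.2.1.2.2 * M3 p.2.2 := rfl

theorem pe_mul (p q : Par) : ∃ r, pe r = pe p * pe q := by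
  obtain ⟨⟨a, b, c, d, e⟩, ⟨x, y, z⟩, t⟩ := p
  obtain ⟨⟨a', b', c', d', e'⟩, ⟨x', y', z'⟩, t'⟩ := q
  refine ⟨((a + (a' - z * (b' - 2 * t * c' - t * t * d') - 2 * y * (c' + t * d') - x * d' -
      (y * y + x * z) * e'), b + (b' - 2 * t * c' - t * t * d' + x * e'),
      c + (c' + t * d' + y * e'), d + (d' + z * e'), e + e'),
    (x + (x' - 2 * t * y' - t * t * z'), y + (y' + t * z'), z + z'), t + t'), wm_inj ?_⟩
  rw [wm_mul, wm_pe, wm_pe, wm_pe]
  symm
  simp only [← Matrix.mul_assoc]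
  rw [Matrix.mul_assoc (M1 a b c d e * M2 x y z) (M3 t), M3_M1, ← Matrix.mul_assoc]
  rw [Matrix.mul_assoc (M1 a b c d e) (M2 x y z), M2_M1, ← Matrix.mul_assoc, M1_add]
  rw [Matrix.mul_assoc _ (M3 t) (M2 x' y' z'), M3_M2, ← Matrix.mul_assoc,
    Matrix.mul_assoc _ (M2 x y z) (M2 _ _ _), M2_add, Matrix.mul_assoc _ (M3 t) (M3 t'), M3_add]

theorem pe_injective : Function.Injective pe := by
  intro p q h
  have h' : wm (pe p) = wm (pe q) := congrArg wm h
  obtain ⟨⟨a, b, c, d, e⟩, ⟨x, y, z⟩, t⟩ := p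
  obtain ⟨⟨a', b', c', d', e'⟩, ⟨x', y', z'⟩, t'⟩ := q
  rw [wm_pe, wm_pe] at h'
  have k := fun i j => congrFun (congrFun h' i) j
  simp [Matrix.mul_apply, Fin.sum_univ_seven, M1, M2, M3] at k
  have h1 := k 1 6
  have h2 := k 2 6
  have h3 := k 3 6
  have h4 := k 4 6
  have h5 := k 5 6
  have h6 := k 2 5
  have h7 := k 3 5
  have h8 := k 4 5
  have h9 := k 3 4
  simp at h1 h2 h3 h4 h5 h6 h7 h8 h9
  subst h1 h2 h3 h4 h5 h6 h7 h8 h9
  rfl

noncomputable def PS : Subgroup W7 where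
  carrier := Set.range pe
  mul_mem' := by
    rintro _ _ ⟨p, rfl⟩ ⟨q, rfl⟩
    exact pe_mul p q
  one_mem' := ⟨((0, 0, 0, 0, 0), (0, 0, 0), 0), wm_inj (by
    rw [wm_pe, M1_zero, M2_zero, M3_zero, Matrix.one_mul, Matrix.one_mul, wm_one])⟩
  inv_mem' := by
    rintro x ⟨p, rfl⟩
    have hpow : ∀ n, pe p ^ (n + 1) ∈ Set.range pe := by
      intro n
      induction n with
      | zero => exact ⟨p, (pow_one _).symm⟩
      | succ n ih =>
        obtain ⟨q, hq⟩ := ih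
        rw [pow_succ _ (n + 1), ← hq]
        exact pe_mul q p
    have ho := orderOf_pos (pe p)
    rcases Nat.lt_or_ge 1 (orderOf (pe p)) with h1 | h1
    · have : (pe p)⁻¹ = pe p ^ (orderOf (pe p) - 2 + 1) := by
        refine inv_eq_of_mul_eq_one_right ?_
        rw [← pow_succ', show orderOf (pe p) - 2 + 1 + 1 = orderOf (pe p) by omega, pow_orderOf_eq_one]
      rw [this]; exact hpow _
    · have h1' : pe p = 1 := orderOf_eq_one_iff.1 (by omega)
      rw [h1', inv_one, ← h1']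
      exact ⟨p, rfl⟩

theorem PS_card : Nat.card PS = 3 ^ 9 := by
  rw [show Nat.card PS = Nat.card (Set.range pe) from rfl,
    Nat.card_range_of_injective pe_injective]
  simp [Nat.card_eq_fintype_card, Par, ZMod.card]

/-- Every element of order dividing `3` is conjugate to an element of `PS`. -/
theorem exists_conj_PS (x : W7) (hx : x ^ 3 = 1) : ∃ g : W7, g * x * g⁻¹ ∈ PS := by
  haveI : Fact (Nat.Prime 3) := ⟨by norm_num⟩
  haveI : Finite W7 := Nat.finite_of_card_ne_zero (by rw [W7_card]; norm_num)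
  have hfac : (Nat.card W7).factorization 3 = 9 := by
    rw [W7_card, show (4585351680 : ℕ) = 3 ^ 9 * 232960 from rfl,
      Nat.factorization_mul (by norm_num) (by norm_num), Nat.Prime.factorization_pow (by norm_num)]
    simp [Nat.factorization_eq_zero_of_not_dvd (show ¬ 3 ∣ 232960 by norm_num)]
  let S : Sylow 3 W7 := Sylow.ofCard PS (by rw [hfac, PS_card])
  have hp : IsPGroup 3 (Subgroup.zpowers x) := by
    refine IsPGroup.iff_card.2 ?_
    rw [Nat.card_zpowers]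
    rcases (Nat.dvd_prime (by norm_num : Nat.Prime 3)).1 (orderOf_dvd_of_pow_eq_one hx) with h | h
    · exact ⟨0, by rw [h]; rfl⟩
    · exact ⟨1, by rw [h]; rfl⟩
  obtain ⟨T, hT⟩ := hp.exists_le_sylow
  obtain ⟨g, hg⟩ := MulAction.exists_smul_eq W7 T S
  refine ⟨g, ?_⟩
  have h1 : g * x * g⁻¹ ∈ ((g • T : Sylow 3 W7) : Subgroup W7) :=
    ⟨x, hT (Subgroup.mem_zpowers x), by simp [MulAut.smul_def]⟩
  rw [hg] at h1
  exact h1

end H94.O7
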